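import Cfsg.Agent.Lib.PSL2.Line
import Cfsg.Agent.Lib.ChevStr.RankOne

/-!
The upper unitriangular part of a finite subgroup of `SL₂(k)` which also contains a non-trivial
lower unitriangular element is, if it has at least four elements, given by a subfield.
-/

set_option autoImplicit false

open OnePoint Matrix MulAction

namespace CfsgLib.SubfieldOver

open CfsgLib.PSL2 CfsgLib.PermSmall.Moebius
open CfsgLib.ChevStr.ChevCore (slX slY)

variable {k : Type*} [Field k]

/-- A finite set closed under subtraction and under `a ↦ β / a` is multiplicatively closed. -/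
theorem mul_mem_of_div (p : ℕ) [Fact p.Prime] [CharP k p] (A : AddSubgroup k) [Finite A]
    (h1 : (1 : k) ∈ A) {β : k} (hβ : β ≠ 0) (hβA : β ∈ A)
    (hJ : ∀ a ∈ A, a ≠ 0 → β / a ∈ A) : ∀ a ∈ A, ∀ b ∈ A, a * b ∈ A := by
  have hua : ∀ a ∈ A, ∀ x ∈ A, a ^ 2 * x / β ∈ A := by
    intro a ha x hx
    rcases eq_or_ne x 0 with rfl | hx0
    · simp
    rcases eq_or_ne a 0 with rfl | ha0
    · simp
    have hc := hJ x hx hx0
    set c := β / x with hc'
    have hc0 : c ≠ 0 := div_ne_zero hβ hx0
    have hxc : a ^ 2 * x / β = a ^ 2 / c := by rw [hc']; field_simp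
    rw [hxc]
    rcases eq_or_ne a c with rfl | hac
    · rwa [show c ^ 2 / c = c by field_simp]
    have hs := add_mem (hJ a ha ha0) (hJ (c - a) (sub_mem hc ha) (sub_ne_zero.2 hac.symm))
    have hca : c - a ≠ 0 := sub_ne_zero.2 hac.symm
    have hsum : β / a + β / (c - a) = β * c / (a * (c - a)) := by
      field_simp
      ring
    have hs0 : β / a + β / (c - a) ≠ 0 := by
      rw [hsum]
      exact div_ne_zero (mul_ne_zero hβ hc0) (mul_ne_zero ha0 hca)
    have h2 := sub_mem ha (hJ _ hs hs0)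
    rwa [show a - β / (β / a + β / (c - a)) = a ^ 2 / c by rw [hsum]; field_simp; ring] at h2
  have hdiv : ∀ x ∈ A, x / β ∈ A := fun x hx => by simpa using hua 1 h1 x hx
  have hmulβ : ∀ x ∈ A, x * β ∈ A := by
    let f : A → A := fun x => ⟨x / β, hdiv x x.2⟩
    have hf : Function.Injective f := fun x y h => Subtype.ext
      ((div_left_inj' hβ).1 (congrArg Subtype.val h))
    intro x hx
    obtain ⟨⟨y, hy⟩, hxy⟩ := (Finite.injective_iff_surjective.1 hf) ⟨x, hx⟩
    have : y / β = x := congrArg Subtype.val hxy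
    rwa [← this, div_mul_cancel₀ _ hβ]
  have hsq : ∀ a ∈ A, ∀ x ∈ A, a ^ 2 * x ∈ A := fun a ha x hx => by
    simpa [div_mul_cancel₀ _ hβ] using hmulβ _ (hua a ha x hx)
  intro a ha b hb
  rcases eq_or_ne (2 : k) 0 with h2 | h2
  · have hc : CharP k 2 := CharTwo.of_one_ne_zero_of_two_eq_zero one_ne_zero h2
    let f : A → A := fun x => ⟨(x : k) ^ 2, by simpa using hsq x x.2 1 h1⟩
    have hf : Function.Injective f := fun x y h => Subtype.ext
      (frobenius_inj k 2 (congrArg Subtype.val h))
    obtain ⟨⟨c, hc'⟩, hca⟩ := (Finite.injective_iff_surjective.1 hf) ⟨a, ha⟩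
    rw [show a = c ^ 2 from (congrArg Subtype.val hca).symm]
    exact hsq c hc' b hb
  · have h2ab : 2 * (a * b) ∈ A := by
      have := sub_mem (sub_mem (hsq (a + b) (add_mem ha hb) 1 h1) (hsq a ha 1 h1)) (hsq b hb 1 h1)
      rwa [show (a + b) ^ 2 * 1 - a ^ 2 * 1 - b ^ 2 * 1 = 2 * (a * b) by ring] at this
    have hpodd : p % 2 = 1 := by
      rcases (Fact.out : p.Prime).eq_two_or_odd with rfl | h
      · exact absurd (by exact_mod_cast CharP.cast_eq_zero k 2) h2
      · exact h
    have := nsmul_mem h2ab ((p + 1) / 2)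
    rwa [nsmul_eq_mul, ← mul_assoc, ← Nat.cast_ofNat (R := k) (n := 2),
      show (((p + 1) / 2 : ℕ) : k) * ((2 : ℕ) : k) = 1 by
        rw [← Nat.cast_mul, Nat.div_mul_cancel (by omega), Nat.cast_add,
          CharP.cast_eq_zero, zero_add, Nat.cast_one], one_mul] at this

theorem slX_mul (s t : k) : (slX s * slX t : SpecialLinearGroup (Fin 2) k) = slX (s + t) := by
  apply Subtype.ext
  show (slX s : SpecialLinearGroup (Fin 2) k).1 * (slX t : SpecialLinearGroup (Fin 2) k).1 = _
  ext i j; fin_cases i <;> fin_cases j <;> simp [slX, Matrix.mul_apply, Fin.sum_univ_two, add_comm]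

theorem slX_inv (t : k) : (slX t)⁻¹ = (slX (-t) : SpecialLinearGroup (Fin 2) k) := by
  refine inv_eq_of_mul_eq_one_right ?_
  rw [slX_mul, add_neg_cancel]
  apply Subtype.ext
  ext i j; fin_cases i <;> fin_cases j <;> simp [slX]

theorem slX_injective : Function.Injective (slX : k → SpecialLinearGroup (Fin 2) k) := fun a b h => by
  simpa [slX] using congrArg (fun A : SpecialLinearGroup (Fin 2) k => A.1 0 1) h

/-- The parameters of the upper unitriangular elements of `G`. -/
def upperSet (G : Subgroup (SpecialLinearGroup (Fin 2) k)) : AddSubgroup k where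
  carrier := {t | slX t ∈ G}
  zero_mem' := by
    have : (slX 0 : SpecialLinearGroup (Fin 2) k) = 1 := by
      apply Subtype.ext; ext i j; fin_cases i <;> fin_cases j <;> simp [slX]
    show slX 0 ∈ G
    rw [this]; exact one_mem _
  add_mem' := fun {a b} ha hb => by
    show slX (a + b) ∈ G
    rw [← slX_mul]; exact mul_mem ha hb
  neg_mem' := fun {a} ha => by
    show slX (-a) ∈ G
    rw [← slX_inv]; exact inv_mem ha

theorem mem_upperSet {G : Subgroup (SpecialLinearGroup (Fin 2) k)} {t : k} :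
    t ∈ upperSet G ↔ slX t ∈ G := Iff.rfl

instance finite_upperSet (G : Subgroup (SpecialLinearGroup (Fin 2) k)) [Finite G] :
    Finite (upperSet G) :=
  Finite.of_injective (fun t => (⟨slX (t : k), t.2⟩ : G))
    fun _ _ h => Subtype.ext (slX_injective (congrArg Subtype.val h))

/-- The orbit of `∞` consists of `∞` and the translates of `1/c`. -/
theorem orbit_infty (p : ℕ) [Fact p.Prime] [CharP k p] (G : Subgroup (SpecialLinearGroup (Fin 2) k))
    [Finite G] (hcard : 4 ≤ Nat.card (upperSet G)) {c : k} (hc : c ≠ 0) (hy : slY c ∈ G)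
    (A : SpecialLinearGroup (Fin 2) k) (hA : A ∈ G) (h10 : A.1 1 0 ≠ 0) :
    A.1 0 0 / A.1 1 0 - 1 / c ∈ upperSet G := by
  classical
  let L := AlgebraicClosure k
  let ι : k →+* L := algebraMap k L
  have : CharP L p := charP_of_injective_ringHom ι.injective p
  let F : SpecialLinearGroup (Fin 2) k →* Equiv.Perm (OnePoint L) :=
    (slHom L).comp (SpecialLinearGroup.map ι)
  let I : Subgroup (Equiv.Perm (OnePoint L)) := G.map F
  have hIfin : Finite I := Finite.of_surjective (fun g : G => (⟨F g, g, g.2, rfl⟩ : I))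
    (fun ⟨x, g, hg, hx⟩ => ⟨⟨g, hg⟩, Subtype.ext hx⟩)
  let f : I →* Equiv.Perm (OnePoint L) := I.subtype
  have hf : Function.Injective f := Subtype.val_injective
  have hr : ∀ g, f g ∈ (glHom L).range := by
    rintro ⟨-, g, -, rfl⟩
    exact ⟨_, rfl⟩
  have hLA := CfsgLib.PSL2.isLineAction f p hf hr
  have hmap : ∀ (B : SpecialLinearGroup (Fin 2) k) (i j : Fin 2),
      (↑(SpecialLinearGroup.map ι B) : Matrix (Fin 2) (Fin 2) L) i j = ι (B.1 i j) := fun _ _ _ => rfl
  -- the action of a matrix on `∞`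
  have hinf : ∀ B : SpecialLinearGroup (Fin 2) k, F B ∞ =
      if B.1 1 0 = 0 then ∞ else ((ι (B.1 0 0 / B.1 1 0) : L) : OnePoint L) := by
    intro B
    show (SpecialLinearGroup.toGL (SpecialLinearGroup.map ι B)) • (∞ : OnePoint L) = _
    rw [smul_infty_eq_ite]
    simp [SpecialLinearGroup.toGL, map_div₀, hmap]
  have htr : ∀ t : k, F (slX t) = affinePerm 1 (ι t) := by
    intro t
    refine Equiv.ext fun z => ?_
    show (SpecialLinearGroup.toGL (SpecialLinearGroup.map ι (slX t))) • z = _
    cases z with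
    | infty => simp [smul_infty_eq_ite, SpecialLinearGroup.toGL, hmap] <;> simp [slX]
    | coe z => simp [smul_some_eq_ite, SpecialLinearGroup.toGL, hmap] <;> simp [slX]
  have hunip : ∀ g : I, f g ∞ = ∞ → g ^ p = 1 → ∃ t ∈ upperSet G, f g = affinePerm 1 (ι t) := by
    rintro ⟨-, B, hB, rfl⟩ hfix hpow
    change F B ∞ = ∞ at hfix
    have hb10 : B.1 1 0 = 0 := by
      rw [hinf] at hfix
      by_contra h
      rw [if_neg h] at hfix
      exact OnePoint.coe_ne_infty _ hfix
    have hdet : B.1 0 0 * B.1 1 1 = 1 := by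
      have := B.2; rw [Matrix.det_fin_two, hb10, mul_zero, sub_zero] at this; exact this
    have haff : ∀ z : L, F B ((z : L) : OnePoint L) =
        (((ι (B.1 0 0) * z + ι (B.1 0 1)) / ι (B.1 1 1) : L) : OnePoint L) := by
      intro z
      show (SpecialLinearGroup.toGL (SpecialLinearGroup.map ι B)) • (z : OnePoint L) = _
      have h11 : B.1 1 1 ≠ 0 := right_ne_zero_of_mul (hdet ▸ one_ne_zero)
      simp [smul_some_eq_ite, SpecialLinearGroup.toGL, hb10, h11, hmap]
    obtain ⟨u, b, hub⟩ := eq_affine_of_fix_infty (L := L) (hr ⟨F B, B, hB, rfl⟩) hfix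
    change F B = _ at hub
    have hu1 : u = 1 := by
      have h1 : (F B) ^ p = 1 := congrArg Subtype.val hpow
      rw [hub, affine_pow_eq_one_iff] at h1
      exact h1
    subst hu1
    have h0 := haff 0
    have h1 := haff 1
    rw [hub, affinePerm_coe, OnePoint.coe_eq_coe] at h0 h1
    simp only [mul_zero, zero_add, Units.val_one, mul_one] at h0 h1
    rw [h0] at h1
    have h11 : ι (B.1 1 1) ≠ 0 := (map_ne_zero ι).2 (right_ne_zero_of_mul (hdet ▸ one_ne_zero))
    have hd : B.1 0 0 = B.1 1 1 := by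
      apply ι.injective
      rw [eq_div_iff h11, add_mul, one_mul, div_mul_cancel₀ _ h11] at h1
      linear_combination -h1
    have hsq : B.1 0 0 * B.1 0 0 = 1 := by rw [← hd] at hdet; exact hdet
    have hb : b = ι (B.1 0 1 / B.1 1 1) := by rw [h0, map_div₀]
    refine ⟨_, ?_, by show F B = _; rw [hub, hb]⟩
    rcases mul_self_eq_one_iff.1 hsq with ha | ha
    · have hBX : B = slX (B.1 0 1 / B.1 1 1) := by
        apply Subtype.ext
        ext i j
        fin_cases i <;> fin_cases j <;> simp [slX, hb10, ← hd, ha]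
      rw [mem_upperSet, ← hBX]
      exact hB
    · rcases (Fact.out : p.Prime).eq_two_or_odd' with hp2 | hodd
      · subst hp2
        have hneg : (-1 : k) = 1 := CharTwo.neg_eq 1
        have hBX : B = slX (B.1 0 1 / B.1 1 1) := by
          apply Subtype.ext
          ext i j
          fin_cases i <;> fin_cases j <;> simp [slX, hb10, ← hd, ha, hneg]
        rw [mem_upperSet, ← hBX]
        exact hB
      · have hBX : B = -1 * slX (B.1 0 1 / B.1 1 1) := by
          apply Subtype.ext
          ext i j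
          rw [neg_one_mul, SpecialLinearGroup.coe_neg]
          fin_cases i <;> fin_cases j <;> simp [slX, hb10, ← hd, ha, div_neg]
        have hpX : ∀ (n : ℕ) (t : k), (slX t : SpecialLinearGroup (Fin 2) k) ^ n = slX ((n : k) * t) := by
          intro n t
          induction n with
          | zero =>
            simp only [pow_zero, Nat.cast_zero, zero_mul]
            exact (by apply Subtype.ext; ext i j; fin_cases i <;> fin_cases j <;> simp [slX])
          | succ n ih => rw [pow_succ, ih, slX_mul, Nat.cast_succ, add_mul, one_mul]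
        have hBp : B ^ p = -1 := by
          rw [hBX, (Commute.neg_one_left _).mul_pow, hodd.neg_one_pow, hpX, CharP.cast_eq_zero,
            zero_mul]
          have h0' : (slX 0 : SpecialLinearGroup (Fin 2) k) = 1 := by
            apply Subtype.ext; ext i j; fin_cases i <;> fin_cases j <;> simp [slX]
          rw [h0', mul_one]
        rw [mem_upperSet, show slX (B.1 0 1 / B.1 1 1) = B ^ p * B by
          rw [hBp]
          conv_rhs => rw [hBX]
          rw [← mul_assoc, neg_one_mul, neg_neg, one_mul]]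
        exact mul_mem (pow_mem hB p) hB
  -- translations
  obtain ⟨t₁, ht₁, ht₁0⟩ : ∃ t ∈ upperSet G, t ≠ 0 := by
    by_contra h
    push Not at h
    have : Subsingleton (upperSet G) := ⟨fun a b => Subtype.ext ((h _ a.2).trans (h _ b.2).symm)⟩
    have := Nat.card_of_subsingleton (⟨0, zero_mem _⟩ : upperSet G)
    omega
  let emb : upperSet G → I := fun t => ⟨F (slX (t : k)), slX (t : k), t.2, rfl⟩
  have hemb_inj : Function.Injective emb := fun a b h => by
    have h' : F (slX (a : k)) = F (slX (b : k)) := congrArg Subtype.val h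
    rw [htr, htr] at h'
    exact Subtype.ext (ι.injective (affinePerm_inj h').2)
  have hemb1 : emb ⟨t₁, ht₁⟩ ≠ 1 := fun h => ht₁0 (by
    have h' : F (slX t₁) = 1 := congrArg Subtype.val h
    rw [htr, ← affinePerm_one] at h'
    exact (map_eq_zero ι).1 (affinePerm_inj h').2)
  let x : Pts f := ⟨∞, emb ⟨t₁, ht₁⟩, hemb1, by show F (slX t₁) ∞ = ∞; rw [htr, affinePerm_infty]⟩
  have hembu : ∀ t, emb t ∈ unip hLA x := fun t => by
    refine ⟨(pts_smul_eq_iff f _ _).2 (by show F (slX (t : k)) ∞ = ∞; rw [htr, affinePerm_infty]), ?_⟩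
    apply Subtype.ext
    show (F (slX (t : k))) ^ p = 1
    rw [htr, affinePerm_one_pow, CharP.cast_eq_zero, zero_mul, affinePerm_one]
  have hne : unip hLA x ≠ ⊥ := fun h => hemb1 (by
    have := hembu ⟨t₁, ht₁⟩; rwa [h, Subgroup.mem_bot] at this)
  have hu4 : 4 ≤ Nat.card (unip hLA x) := hcard.trans
    (Nat.card_le_card_of_injective (fun t => (⟨emb t, hembu t⟩ : unip hLA x))
      fun a b h => hemb_inj (congrArg Subtype.val h))
  have hpg : IsPGroup p (unip hLA x) := fun g => ⟨1, Subtype.ext (by rw [pow_one]; exact g.2.2)⟩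
  let yI : I := ⟨F (slY c), slY c, hy, rfl⟩
  have hyinf : F (slY c) ∞ = ((ι (1 / c) : L) : OnePoint L) := by
    rw [hinf, if_neg (by simpa [slY] using hc)]
    simp [slY]
  have hymove : yI • x ≠ x := fun h => by
    have h' := (pts_smul_eq_iff f _ _).1 h
    change F (slY c) ∞ = ∞ at h'
    rw [hyinf] at h'
    exact OnePoint.coe_ne_infty _ h'
  obtain ⟨n, hn⟩ := hpg.exists_card_eq
  rcases classify_modular hLA hne with hall | ⟨a, b, hab, -, hi, -⟩ | ⟨⟨e⟩⟩ | ⟨hp3, ⟨e⟩⟩ |
      ⟨y, hyx, -, -, hox, -, -⟩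
  · exact absurd (hall yI) hymove
  · -- dihedral
    exfalso
    set Cs := (stabilizer I a ⊓ stabilizer I b : Subgroup I)
    have : Finite (I ⧸ Cs) := Quotient.finite _
    have hinj : Function.Injective (fun g : unip hLA x => ((g : I) : I ⧸ Cs)) := by
      intro g g' h
      have hC : ((g : I))⁻¹ * g' ∈ Cs := QuotientGroup.eq.1 h
      have hm : ((g : I))⁻¹ * g' ∈ unip hLA x := mul_mem (inv_mem g.2) g'.2
      exact Subtype.ext (inv_mul_eq_one.1 (eq_one_of_two_fix hLA hm.2 hab hC.1 hC.2))
    have h2 := Nat.card_le_card_of_injective _ hinj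
    rw [← Subgroup.index_eq_card, hi] at h2
    omega
  · -- alternating of degree four
    exfalso
    have hI : Nat.card I = 12 := by
      rw [Nat.card_congr e.toEquiv, nat_card_alternatingGroup, Nat.card_fin]; rfl
    have hdvd : p ^ n ∣ 12 := by rw [← hn, ← hI]; exact Subgroup.card_subgroup_dvd_card _
    have hp2 : p = 2 ∧ n = 2 := by
      have hp := (Fact.out : p.Prime)
      rw [hn] at hu4
      have hn1 : n ≠ 0 := fun h => by rw [h, pow_zero] at hu4; omega
      have hpd : p ∣ 12 := (dvd_pow_self p hn1).trans hdvd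
      have hp23 : p = 2 ∨ p = 3 := by
        have h := (Nat.Prime.dvd_mul hp).1 (show p ∣ 4 * 3 from hpd)
        rcases h with h | h
        · exact Or.inl ((Nat.prime_dvd_prime_iff_eq hp Nat.prime_two).1
            (hp.dvd_of_dvd_pow (show p ∣ 2 ^ 2 from h)))
        · exact Or.inr ((Nat.prime_dvd_prime_iff_eq hp Nat.prime_three).1 h)
      have hle : p ^ n ≤ 12 := Nat.le_of_dvd (by norm_num) hdvd
      rcases hp23 with rfl | rfl
      · have h4 : n ≤ 3 := by
          by_contra h
          have := Nat.pow_le_pow_right (show 0 < 2 by norm_num) (show 4 ≤ n by omega)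
          omega
        interval_cases n <;> first | (norm_num at hu4; done) | (norm_num at hdvd; done) | exact ⟨rfl, rfl⟩
      · have h4 : n ≤ 2 := by
          by_contra h
          have := Nat.pow_le_pow_right (show 0 < 3 by norm_num) (show 3 ≤ n by omega)
          omega
        interval_cases n <;> first | (norm_num at hu4; done) | (norm_num at hdvd; done)
    obtain ⟨rfl, rfl⟩ := hp2
    have hall2 : ∀ g : I, g ^ 2 = 1 → g ∈ unip hLA x := by
      have key : Nat.card {g : alternatingGroup (Fin 4) // g ^ 2 = 1} = 4 := by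
        rw [Nat.card_eq_fintype_card]; decide
      let j : unip hLA x → {g : alternatingGroup (Fin 4) // g ^ 2 = 1} := fun g =>
        ⟨e g, by rw [← map_pow, g.2.2, map_one]⟩
      have hj : Function.Injective j := fun a b h =>
        Subtype.ext (e.injective (congrArg Subtype.val h))
      have hb := hj.bijective_of_nat_card_le (by rw [key, hn]; norm_num)
      intro g hg
      obtain ⟨a, ha⟩ := hb.2 ⟨e g, by rw [← map_pow, hg, map_one]⟩
      rw [← e.injective (congrArg Subtype.val ha)]
      exact a.2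
    have hu : yI * emb ⟨t₁, ht₁⟩ * yI⁻¹ ∈ unip hLA x := hall2 _ (by
      rw [conj_pow, (hembu ⟨t₁, ht₁⟩).2, mul_one, mul_inv_cancel])
    refine hymove ?_
    have hfixy : (yI * emb ⟨t₁, ht₁⟩ * yI⁻¹) • (yI • x) = yI • x := by
      rw [mul_smul, inv_smul_smul, mul_smul, (hembu ⟨t₁, ht₁⟩).1]
    exact (hLA.pow_eq_one_iff _ (fun h => hemb1 (conj_eq_one_iff.1 h))).1 hu.2 _ _ hfixy hu.1
  · -- alternating of degree five in characteristic three
    exfalso
    subst hp3
    have hdvd : 3 ^ n ∣ 60 := by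
      rw [← hn, show 60 = Nat.card I by
        rw [Nat.card_congr e.toEquiv, nat_card_alternatingGroup, Nat.card_fin]; rfl]
      exact Subgroup.card_subgroup_dvd_card _
    rw [hn] at hu4
    rcases le_or_gt n 1 with h | h
    · have := Nat.pow_le_pow_right (show 0 < 3 by norm_num) h
      omega
    · have : 9 ∣ 60 := (pow_dvd_pow 3 h).trans hdvd
      norm_num at this
  -- the generic case
  have horb : ∀ g : I, f g ∞ = ∞ ∨ ∃ t ∈ upperSet G, ∃ b : OnePoint L, b = y.1 ∧
      f g ∞ = affinePerm 1 (ι t) b := by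
    intro g
    rcases hox g with h | ⟨u, hu, h⟩
    · exact Or.inl ((pts_smul_eq_iff f _ _).1 h)
    · obtain ⟨t, ht, htu⟩ := hunip u ((pts_smul_eq_iff f _ _).1 hu.1) hu.2
      refine Or.inr ⟨t, ht, _, rfl, ?_⟩
      rw [← htu]
      exact congrArg Subtype.val h
  rcases horb ⟨F A, A, hA, rfl⟩ with h | ⟨t, ht, _, rfl, h⟩
  · change F A ∞ = ∞ at h
    rw [hinf, if_neg h10] at h
    exact absurd h (OnePoint.coe_ne_infty _)
  rcases horb yI with h' | ⟨t', ht', _, rfl, h'⟩
  · exact absurd ((pts_smul_eq_iff f yI x).2 h') hymove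
  change F A ∞ = _ at h
  change F (slY c) ∞ = _ at h'
  rw [hinf, if_neg h10] at h
  rw [hyinf] at h'
  cases hyv : y.1 with
  | infty => exact absurd (Subtype.ext hyv) hyx
  | coe b =>
    rw [hyv, affinePerm_coe, OnePoint.coe_eq_coe, Units.val_one, one_mul] at h h'
    have : A.1 0 0 / A.1 1 0 - 1 / c = t - t' := by
      apply ι.injective
      rw [map_sub, map_sub, h, h']
      ring
    rw [this]
    exact sub_mem ht ht'

/-- The upper parameters form a multiplicatively closed set containing the lower parameter. -/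
theorem field_of_upper (p : ℕ) [Fact p.Prime] [CharP k p] (G : Subgroup (SpecialLinearGroup (Fin 2) k))
    [Finite G] (hcard : 4 ≤ Nat.card (upperSet G)) (h1 : (1 : k) ∈ upperSet G) {c : k} (hc : c ≠ 0)
    (hy : slY c ∈ G) :
    c ∈ upperSet G ∧ ∀ a ∈ upperSet G, ∀ b ∈ upperSet G, a * b ∈ upperSet G := by
  have horb := orbit_infty p G hcard hc hy
  have h2c : 2 / c ∈ upperSet G := by
    have hinv : ((slY c)⁻¹ : SpecialLinearGroup (Fin 2) k).1 = !![1, 0; -c, 1] := by
      show Matrix.adjugate ((slY c : SpecialLinearGroup (Fin 2) k).1) = _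
      rw [Matrix.adjugate_fin_two]; simp [slY]
    have := horb _ (inv_mem hy) (by rw [hinv]; simpa using hc)
    rw [hinv] at this
    have h' := neg_mem this
    rwa [show -((!![1, 0; -c, 1] : Matrix (Fin 2) (Fin 2) k) 0 0 /
        (!![1, 0; -c, 1] : Matrix (Fin 2) (Fin 2) k) 1 0 - 1 / c) = 2 / c by
      simp; field_simp; ring] at h'
  have hJ : ∀ u ∈ upperSet G, u ≠ 0 → 1 / c ^ 2 / u ∈ upperSet G := by
    intro u hu hu0
    set v := u - 2 / c with hv
    have hvm : v ∈ upperSet G := sub_mem hu h2c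
    have hM : ((slY c * slX v * slY c : SpecialLinearGroup (Fin 2) k)).1 =
        !![1 + v * c, v; c * (c * u), c * v + 1] := by
      show (slY c : SpecialLinearGroup (Fin 2) k).1 * (slX v).1 * (slY c).1 = _
      ext i j
      fin_cases i <;> fin_cases j <;>
        simp [slX, slY, Matrix.mul_apply, Fin.sum_univ_two, hv] <;> field_simp <;> ring
    have := horb _ (mul_mem (mul_mem hy hvm) hy) (by
      rw [hM]; simpa using ⟨hc, hu0⟩)
    rw [hM] at this
    have h' := neg_mem this
    rwa [show -((!![1 + v * c, v; c * (c * u), c * v + 1] : Matrix (Fin 2) (Fin 2) k) 0 0 /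
        (!![1 + v * c, v; c * (c * u), c * v + 1] : Matrix (Fin 2) (Fin 2) k) 1 0 - 1 / c) =
        1 / c ^ 2 / u by simp [hv]; field_simp; ring] at h'
  have hβ : 1 / c ^ 2 ∈ upperSet G := by simpa using hJ 1 h1 one_ne_zero
  have hmul := mul_mem_of_div p (upperSet G) h1 (div_ne_zero one_ne_zero (pow_ne_zero 2 hc)) hβ hJ
  refine ⟨?_, hmul⟩
  have hc2 : c ^ 2 ∈ upperSet G := by
    let f : upperSet G → upperSet G := fun x => ⟨1 / c ^ 2 * x, hmul _ hβ x x.2⟩
    have hf : Function.Injective f := fun x y h => Subtype.ext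
      (mul_left_cancel₀ (div_ne_zero one_ne_zero (pow_ne_zero 2 hc)) (congrArg Subtype.val h))
    obtain ⟨⟨z, hz⟩, hz'⟩ := (Finite.injective_iff_surjective.1 hf) ⟨1, h1⟩
    have h' : 1 / c ^ 2 * z = 1 := congrArg Subtype.val hz'
    rwa [show c ^ 2 = z by field_simp at h'; exact h'.symm]
  rcases eq_or_ne (2 : k) 0 with h2 | h2
  · have hch : CharP k 2 := CharTwo.of_one_ne_zero_of_two_eq_zero one_ne_zero h2
    let f : upperSet G → upperSet G := fun x => ⟨(x : k) ^ 2, by rw [sq]; exact hmul _ x.2 _ x.2⟩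
    have hf : Function.Injective f := fun x y h => Subtype.ext
      (frobenius_inj k 2 (congrArg Subtype.val h))
    obtain ⟨⟨z, hz⟩, hz'⟩ := (Finite.injective_iff_surjective.1 hf) ⟨c ^ 2, hc2⟩
    rwa [← frobenius_inj k 2 (congrArg Subtype.val hz' : z ^ 2 = c ^ 2)]
  · have h' := hmul _ h2c _ hc2
    rw [show 2 / c * c ^ 2 = c + c by field_simp; ring] at h'
    have hpodd : p % 2 = 1 := by
      rcases (Fact.out : p.Prime).eq_two_or_odd with rfl | h
      · exact absurd (by exact_mod_cast CharP.cast_eq_zero k 2) h2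
      · exact h
    have := nsmul_mem h' ((p + 1) / 2)
    rwa [← two_nsmul, ← mul_nsmul, show 2 * ((p + 1) / 2) = p + 1 by omega, succ_nsmul,
      nsmul_eq_mul p c, CharP.cast_eq_zero, zero_mul, zero_add] at this

/-- In odd characteristic a finite subgroup with non-trivial upper and lower unitriangular elements
contains `-1`. -/
theorem neg_one_mem_of_unitriangular (p : ℕ) [Fact p.Prime] [CharP k p] (hp : p ≠ 2)
    (G : Subgroup (SpecialLinearGroup (Fin 2) k)) [Finite G] {a c : k} (ha : a ≠ 0) (hc : c ≠ 0)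
    (hx' : slX a ∈ G) (hy : slY c ∈ G) : -1 ∈ G := by
  classical
  let L := AlgebraicClosure k
  let ι : k →+* L := algebraMap k L
  have : CharP L p := charP_of_injective_ringHom ι.injective p
  let F : SpecialLinearGroup (Fin 2) k →* Equiv.Perm (OnePoint L) :=
    (slHom L).comp (SpecialLinearGroup.map ι)
  let I : Subgroup (Equiv.Perm (OnePoint L)) := G.map F
  have hIfin : Finite I := Finite.of_surjective (fun g : G => (⟨F g, g, g.2, rfl⟩ : I))
    (fun ⟨x, g, hg, hx⟩ => ⟨⟨g, hg⟩, Subtype.ext hx⟩)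
  let f : I →* Equiv.Perm (OnePoint L) := I.subtype
  have hf : Function.Injective f := Subtype.val_injective
  have hr : ∀ g, f g ∈ (glHom L).range := by
    rintro ⟨-, g, -, rfl⟩
    exact ⟨_, rfl⟩
  have hLA := CfsgLib.PSL2.isLineAction f p hf hr
  have hmap : ∀ (B : SpecialLinearGroup (Fin 2) k) (i j : Fin 2),
      (↑(SpecialLinearGroup.map ι B) : Matrix (Fin 2) (Fin 2) L) i j = ι (B.1 i j) := fun _ _ _ => rfl
  have htr : F (slX a) = affinePerm 1 (ι a) := by
    refine Equiv.ext fun z => ?_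
    show (SpecialLinearGroup.toGL (SpecialLinearGroup.map ι (slX a))) • z = _
    cases z with
    | infty => simp [smul_infty_eq_ite, SpecialLinearGroup.toGL, hmap] <;> simp [slX]
    | coe z => simp [smul_some_eq_ite, SpecialLinearGroup.toGL, hmap] <;> simp [slX]
  let g₁ : I := ⟨F (slX a), slX a, hx', rfl⟩
  have hg₁ : g₁ ≠ 1 := fun h => ha (by
    have h' : F (slX a) = 1 := congrArg Subtype.val h
    rw [htr, ← affinePerm_one] at h'
    exact (map_eq_zero ι).1 (affinePerm_inj h').2)
  let x : Pts f := ⟨∞, g₁, hg₁, by show F (slX a) ∞ = ∞; rw [htr, affinePerm_infty]⟩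
  have hmem : g₁ ∈ unip hLA x := by
    refine ⟨(pts_smul_eq_iff f _ _).2 (by show F (slX a) ∞ = ∞; rw [htr, affinePerm_infty]), ?_⟩
    apply Subtype.ext
    show (F (slX a)) ^ p = 1
    rw [htr, affinePerm_one_pow, CharP.cast_eq_zero, zero_mul, affinePerm_one]
  have hne : unip hLA x ≠ ⊥ := fun h => hg₁ (by rwa [h, Subgroup.mem_bot] at hmem)
  have hpg : IsPGroup p (unip hLA x) := fun g => ⟨1, Subtype.ext (by rw [pow_one]; exact g.2.2)⟩
  have h2 : 2 ∣ Nat.card I := by
    rcases classify_modular hLA hne with hall | ⟨a, b, -, -, -, ⟨e⟩⟩ | ⟨⟨e⟩⟩ | ⟨-, ⟨e⟩⟩ |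
        ⟨y, -, -, -, -, -, -, -, hcard⟩
    · exfalso
      have h := (pts_smul_eq_iff f (⟨F (slY c), slY c, hy, rfl⟩ : I) x).1 (hall _)
      change (SpecialLinearGroup.toGL (SpecialLinearGroup.map ι (slY c))) • (∞ : OnePoint L) = ∞ at h
      rw [smul_infty_eq_ite] at h
      simp [SpecialLinearGroup.toGL, hmap] at h
      simp [slY, hc] at h
    · rw [Nat.card_congr e.toEquiv, DihedralGroup.nat_card]; exact dvd_mul_right 2 _
    · rw [Nat.card_congr e.toEquiv, nat_card_alternatingGroup, Nat.card_fin]; decide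
    · rw [Nat.card_congr e.toEquiv, nat_card_alternatingGroup, Nat.card_fin]; decide
    · rw [hcard]
      refine dvd_mul_of_dvd_left ?_ _
      obtain ⟨n, hn⟩ := hpg.exists_card_eq
      rw [hn]
      exact (Odd.add_odd (((Fact.out : p.Prime).odd_of_ne_two hp).pow) odd_one).two_dvd
  have hG : 2 ∣ Nat.card G := h2.trans (Subgroup.card_dvd_of_surjective
    (⟨⟨fun g : G => (⟨F g.1, g.1, g.2, rfl⟩ : I), Subtype.ext (map_one F)⟩,
      fun x y => Subtype.ext (map_mul F x.1 y.1)⟩ : G →* I)
    fun ⟨x, g, hg, hx⟩ => ⟨⟨g, hg⟩, Subtype.ext hx⟩)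
  have : Fact (Nat.Prime 2) := ⟨Nat.prime_two⟩
  obtain ⟨⟨g, hg⟩, ho⟩ := exists_prime_orderOf_dvd_card' 2 hG
  rw [orderOf_eq_prime_iff] at ho
  have hsq : g * g = 1 := by simpa [pow_two] using congrArg Subtype.val ho.1
  have hgi : g = g⁻¹ := eq_inv_of_mul_eq_one_left hsq
  have hinv : g.1 = Matrix.adjugate g.1 := by
    conv_lhs => rw [hgi]
    rfl
  rw [Matrix.adjugate_fin_two] at hinv
  have h2k : (2 : k) ≠ 0 := fun h => hp
    ((Nat.prime_dvd_prime_iff_eq Fact.out Nat.prime_two).1
      ((CharP.cast_eq_zero_iff k p 2).1 (by exact_mod_cast h)))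
  have e00 : g.1 1 1 = g.1 0 0 := (congrFun (congrFun hinv 0) 0).symm.trans (by simp)
  have e01 : g.1 0 1 = 0 := by
    have h : g.1 0 1 = -g.1 0 1 := (congrFun (congrFun hinv 0) 1).trans (by simp)
    exact (mul_eq_zero.1 (show (2 : k) * g.1 0 1 = 0 by linear_combination h)).resolve_left h2k
  have e10 : g.1 1 0 = 0 := by
    have h : g.1 1 0 = -g.1 1 0 := (congrFun (congrFun hinv 1) 0).trans (by simp)
    exact (mul_eq_zero.1 (show (2 : k) * g.1 1 0 = 0 by linear_combination h)).resolve_left h2k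
  have hd : g.1 0 0 * g.1 0 0 = 1 := by
    have h := g.2
    rw [Matrix.det_fin_two, e00, e01, zero_mul, sub_zero] at h
    exact h
  have hg1 : g.1 0 0 = -1 := (mul_self_eq_one_iff.1 hd).resolve_left fun h => ho.2 (Subtype.ext
    (Subtype.ext (Matrix.ext fun i j => by
      fin_cases i <;> fin_cases j <;> simp [e00, e01, e10, h])))
  have : g = -1 := Subtype.ext (Matrix.ext fun i j => by
    show g.1 i j = -(1 : Matrix (Fin 2) (Fin 2) k) i j
    fin_cases i <;> fin_cases j <;> simp [e00, e01, e10, hg1])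
  rwa [← this]

end CfsgLib.SubfieldOver
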