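import Cfsg.Agent.Lib.SubfieldOver.Check
import Cfsg.Agent.Lib.SubfieldOver.Sl2
import Cfsg.Agent.Lib.ChevStr.Bruhat

/-!
Consequences of the table checks at the highest root, and the generation lemma: a subgroup with all
`x_r(±1)` and `x_top(T)`, `T` closed under inverses, contains every `x_r(T)`.
-/

set_option autoImplicit false

namespace CfsgLib.SubfieldOver

open Cfsg.Lie CfsgLib.ChevStr

variable {D : ChevalleyDatum} {s₀ i₀ : ℕ}

/-- The unpacked base check. -/
structure Base (D : ChevalleyDatum) (s₀ i₀ : ℕ) : Prop where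
  pos : 0 < D.nroots
  neg_top : D.neg (topRoot D) = 0
  neg_bot : D.neg 0 = topRoot D
  top_pos : D.IsPosRoot (topRoot D)
  top_q : topRoot D ∈ qList D
  i_lt : i₀ < D.rank
  s_lt : s₀ < D.nroots
  i_long : D.simple i₀ ∈ bfs D 80 [topRoot D] [topRoot D]
  cartan : s₀ = topRoot D ∨ D.cartan i₀ s₀ = -1
  orbit : ∀ s < D.nroots, s ∈ bfs D 80 [topRoot D, s₀] [topRoot D, s₀]
  top_chain : ∀ e ∈ (D.chain.getD (topRoot D) #[]).toList, e.2.size ≤ 1
  cm_top : ∀ p, D.IsPosRoot p → p ≠ topRoot D → cm D p (topRoot D) = true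
  cm_bot : ∀ p, D.IsPosRoot p → p ∉ qList D → cm D p 0 = true
  chain_top : ∀ p, D.IsPosRoot p → ∀ e ∈ (D.chain.getD p #[]).toList, e.1 ≠ topRoot D
  chain_bot : ∀ p, D.IsPosRoot p → ∀ e ∈ (D.chain.getD p #[]).toList,
    ∀ c ∈ e.2.toList, c.1 ≠ 0
  q_closed : ∀ p, D.IsPosRoot p → ∀ s ∈ qList D, s ≠ p →
    s ≠ D.neg p ∧ ∀ c ∈ D.commTerms p s, c.1 ∈ qList D

theorem Base.of_check (h : baseOK D s₀ i₀ = true) : Base D s₀ i₀ := by
  simp only [baseOK, Bool.and_eq_true, decide_eq_true_eq, List.all_eq_true, List.mem_range,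
    Bool.or_eq_true, Bool.not_eq_true', decide_eq_false_iff_not] at h
  obtain ⟨⟨⟨⟨⟨⟨⟨⟨h1, h2⟩, h3⟩, h4⟩, h5⟩, ⟨⟨⟨h6, h7⟩, h8⟩, h9⟩⟩, h10⟩, h11⟩, h12⟩ := h
  have hp : ∀ p, D.IsPosRoot p → _ := fun p hp => (h12 p hp.1).resolve_left fun h => h hp
  exact ⟨h1, h2, h3, h4, h5, h6, h7, h8, h9, h10, h11,
    fun p hpp hne => (hp p hpp).1.1.1.resolve_left hne,
    fun p hpp hne => (hp p hpp).1.1.2.resolve_left hne,
    fun p hpp e he => ((hp p hpp).1.2 e he).1,
    fun p hpp e he c hc => ((hp p hpp).1.2 e he).2 c hc,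
    fun p hpp s hs hne => ((hp p hpp).2 s hs).resolve_left hne⟩

theorem mem_qList {r : ℕ} (h : r ∈ qList D) : D.IsPosRoot r := by
  simp only [qList, List.mem_filter, Bool.and_eq_true, decide_eq_true_eq] at h
  exact h.2.1

/-- Closure of a property along the breadth first search. -/
theorem bfs_induction (P : ℕ → Prop) (hP : ∀ s, P s → ∀ i < D.rank, P (D.reflectRoot i s)) :
    ∀ (fuel : ℕ) (front seen : List ℕ), (∀ s ∈ front, P s) → (∀ s ∈ seen, P s) →
      ∀ s ∈ bfs D fuel front seen, P s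
  | 0, _, _, _, h2 => h2
  | fuel + 1, front, seen, h1, h2 => by
    intro s hs
    simp only [bfs] at hs
    split_ifs at hs with h
    · exact h2 s hs
    · have hnew : ∀ x ∈ ((front.flatMap fun s => (List.range D.rank).map fun i => D.reflectRoot i s).filter
          fun s => !decide (s ∈ seen)).dedup, P x := by
        intro x hx
        rw [List.mem_dedup, List.mem_filter, List.mem_flatMap] at hx
        obtain ⟨⟨y, hy, hx⟩, -⟩ := hx
        obtain ⟨i, hi, rfl⟩ := List.mem_map.1 hx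
        exact hP y (h1 y hy) i (List.mem_range.1 hi)
      refine bfs_induction P hP fuel _ _ hnew (fun x hx => ?_) s hs
      rcases List.mem_append.1 hx with hx | hx
      · exact hnew x hx
      · exact h2 x hx

variable {F : Type*} [Field F] (C : ChevCore D F)

theorem commute_of_cm {a b : ℕ} (ha : a < D.nroots) (hb : b < D.nroots) (h : cm D a b = true) (t u : F) :
    Commute (C.xGL a t) (C.xGL b u) := by
  simp only [cm, Bool.and_eq_true, decide_eq_true_eq, List.isEmpty_iff] at h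
  have h3 := C.xGL_comm ha hb h.1.1 h.1.2 t u
  rw [show D.commWord F a b t u = [] by simp [ChevalleyDatum.commWord, h.2], C.wordGL_nil, mul_one] at h3
  exact h3.symm

theorem oneTerm_eq {a b c : ℕ} (ha : a < D.nroots) (hb : b < D.nroots) (h : oneTerm D a b c = true) :
    ∃ N : F, (N = 1 ∨ N = -1) ∧
      ∀ t u : F, C.xGL b u * C.xGL a t = C.xGL a t * C.xGL b u * C.xGL c (N * (t * u)) := by
  simp only [oneTerm, Bool.and_eq_true, decide_eq_true_eq] at h
  obtain ⟨⟨h1, h2⟩, h3⟩ := h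
  split at h3
  next c' N heq =>
    simp only [Bool.and_eq_true, decide_eq_true_eq] at h3
    obtain ⟨rfl, hN⟩ := h3
    refine ⟨-(N : F), ?_, fun t u => ?_⟩
    · rcases Int.natAbs_eq_iff.1 hN with rfl | rfl
      · exact Or.inr (by simp)
      · exact Or.inl (by simp)
    · rw [C.xGL_comm ha hb h1 h2 t u]
      congr 1
      simp only [ChevalleyDatum.commWord, heq, List.map_cons, List.map_nil, pow_one]
      rw [C.wordGL_cons, C.wordGL_nil, mul_one]
      ring_nf
  next => exact absurd h3 (by simp)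

variable (hB : Base D s₀ i₀)
include hB

theorem commute_top {u : GL D.Idx F} (hu : u ∈ D.posUnipotent F) (t : F) :
    Commute u (C.xGL (topRoot D) t) := by
  have hle : D.posUnipotent F ≤ Subgroup.centralizer {C.xGL (topRoot D) t} :=
    C.posUnipotent_le fun p v hp => Subgroup.mem_centralizer_singleton_iff.mpr (by
      rcases eq_or_ne p (topRoot D) with rfl | h
      · rw [← C.xGL_add, ← C.xGL_add, add_comm]
      · exact (commute_of_cm C hp.1 hB.top_pos.1 (hB.cm_top p hp h) v t).eq)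
  exact Subgroup.mem_centralizer_singleton_iff.mp (hle hu)

omit hB in
/-- The subgroup generated by the root groups of `Q`. -/
abbrev qGroup : Subgroup (GL D.Idx F) := C.Ucl {r | r ∈ qList D}

omit hB in
theorem qGroup_le : qGroup C ≤ D.posUnipotent F :=
  C.Ucl_le fun _ hr t => C.xGL_mem_posUnipotent (mem_qList hr) t

theorem pos_conj_qGroup {r : ℕ} (hr : D.IsPosRoot r) (t : F) {g : GL D.Idx F} (hg : g ∈ qGroup C) :
    C.xGL r t * g * (C.xGL r t)⁻¹ ∈ qGroup C := by
  refine Subgroup.closure_induction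
    (p := fun g _ => C.xGL r t * g * (C.xGL r t)⁻¹ ∈ qGroup C) ?_ ?_ ?_ ?_ hg
  · rintro _ ⟨s, hs, u, rfl⟩
    by_cases hsr : s = r
    · subst hsr
      rw [← C.xGL_add, add_comm, C.xGL_add, mul_inv_cancel_right]
      exact C.xGL_mem_Ucl hs u
    · obtain ⟨hne, hk⟩ := hB.q_closed r hr s hs hsr
      have h := C.xGL_comm hr.1 (mem_qList hs).1 hsr hne (-t) u
      have hw : C.wordGL (D.commWord F r s (-t) u) ∈ qGroup C := by
        refine Subgroup.list_prod_mem _ fun x hx => ?_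
        simp only [List.mem_map, ChevalleyDatum.commWord] at hx
        obtain ⟨p, ⟨c, hc, rfl⟩, rfl⟩ := hx
        exact C.xGL_mem_Ucl (S := {r | r ∈ qList D}) (hk c hc) _
      rw [C.xGL_inv, mul_assoc, h, ← mul_assoc, ← mul_assoc, ← C.xGL_add, add_neg_cancel, C.xGL_zero,
        one_mul]
      exact mul_mem (C.xGL_mem_Ucl hs u) hw
  · simp
  · intro x y _ _ hx hy
    rw [show C.xGL r t * (x * y) * (C.xGL r t)⁻¹ =
      (C.xGL r t * x * (C.xGL r t)⁻¹) * (C.xGL r t * y * (C.xGL r t)⁻¹) by group]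
    exact mul_mem hx hy
  · intro x _ hx
    rw [show C.xGL r t * x⁻¹ * (C.xGL r t)⁻¹ = (C.xGL r t * x * (C.xGL r t)⁻¹)⁻¹ by group]
    exact inv_mem hx

/-- Conjugates of the lowest root group by `U` are conjugates by `Q`. -/
theorem exists_q_conj {u : GL D.Idx F} (hu : u ∈ D.posUnipotent F) :
    ∃ v ∈ qGroup C, ∀ d, u * C.xGL 0 d * u⁻¹ = v * C.xGL 0 d * v⁻¹ := by
  let S : Subgroup (GL D.Idx F) :=
    { carrier := {u | (∀ g ∈ qGroup C, u * g * u⁻¹ ∈ qGroup C ∧ u⁻¹ * g * u ∈ qGroup C) ∧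
        ∃ v ∈ qGroup C, ∀ d, u * C.xGL 0 d * u⁻¹ = v * C.xGL 0 d * v⁻¹}
      one_mem' := ⟨fun g hg => by simp [hg], 1, one_mem _, fun d => rfl⟩
      mul_mem' := by
        rintro a b ⟨ha, v, hv, hav⟩ ⟨hb, w, hw, hbw⟩
        refine ⟨fun g hg => ⟨?_, ?_⟩, a * w * a⁻¹ * v, mul_mem (ha w hw).1 hv, fun d => ?_⟩
        · simpa [mul_assoc] using (ha _ (hb g hg).1).1
        · simpa [mul_assoc] using (hb _ (ha g hg).2).2
        · calc a * b * C.xGL 0 d * (a * b)⁻¹ = a * (b * C.xGL 0 d * b⁻¹) * a⁻¹ := by group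
            _ = a * w * a⁻¹ * (a * C.xGL 0 d * a⁻¹) * (a * w * a⁻¹)⁻¹ := by rw [hbw d]; group
            _ = _ := by rw [hav d]; group
      inv_mem' := by
        rintro a ⟨ha, v, hv, hav⟩
        refine ⟨fun g hg => ⟨by simpa using (ha g hg).2, by simpa using (ha g hg).1⟩,
          a⁻¹ * v⁻¹ * a, by simpa using (ha _ (inv_mem hv)).2, fun d => ?_⟩
        have h : C.xGL 0 d = v⁻¹ * (a * C.xGL 0 d * a⁻¹) * v := by rw [hav d]; group
        calc a⁻¹ * C.xGL 0 d * a⁻¹⁻¹ = a⁻¹ * (v⁻¹ * (a * C.xGL 0 d * a⁻¹) * v) * a := by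
              rw [← h]; group
          _ = _ := by group }
  refine (C.posUnipotent_le (S := S) (fun r t hr => ?_) hu).2
  refine ⟨fun g hg => ⟨pos_conj_qGroup C hB hr t hg, ?_⟩, ?_⟩
  · have := pos_conj_qGroup C hB hr (-t) hg
    simpa [← C.xGL_inv] using this
  by_cases hq : r ∈ qList D
  · exact ⟨_, C.xGL_mem_Ucl (S := {r | r ∈ qList D}) hq t, fun d => rfl⟩
  · refine ⟨1, one_mem _, fun d => ?_⟩
    rw [(commute_of_cm C hr.1 hB.pos (hB.cm_bot r hr hq) t d).eq]
    group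

theorem borel_conj_top {b : GL D.Idx F} {u : GL D.Idx F} (hu : u ∈ D.posUnipotent F)
    (c : Fin D.rank → Fˣ) (hb : b = u * C.R.torus c) (t : F) :
    b * C.xGL (topRoot D) t * b⁻¹ =
      C.xGL (topRoot D) ((C.R.torusChar c (C.R.α (topRoot D)) : F) * t) := by
  subst hb
  rw [show u * C.R.torus c * C.xGL (topRoot D) t * (u * C.R.torus c)⁻¹ =
      u * (C.R.torus c * C.xGL (topRoot D) t * (C.R.torus c)⁻¹) * u⁻¹ by group,
    C.acts_torus c ⟨topRoot D, hB.top_pos.1⟩ t, (commute_top C hB hu _).eq, mul_inv_cancel_right]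

/-- `T` spreads from the highest root group to all root groups. -/
theorem gen_all (S : Subgroup (GL D.Idx F)) (h1 : ∀ r < D.nroots, C.xGL r 1 ∈ S) (T : Set F)
    (hT : ∀ t ∈ T, t⁻¹ ∈ T) (htop : ∀ t ∈ T, C.xGL (topRoot D) t ∈ S) :
    ∀ r < D.nroots, ∀ t ∈ T, C.xGL r t ∈ S := by
  have hn : ∀ i : Fin D.rank, C.nS i ∈ S := by
    intro i
    refine Subgroup.list_prod_mem _ fun x hx => ?_
    simp only [ChevalleyDatum.nWord, List.map_cons, List.map_nil, List.mem_cons, List.not_mem_nil,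
      or_false] at hx
    have hm : ∀ r < D.nroots, C.xGL r (-1) ∈ S := fun r hr => by
      rw [← C.xGL_inv]; exact inv_mem (h1 r hr)
    rcases hx with rfl | rfl | rfl
    · exact h1 _ (C.R.simple_lt i)
    · rw [inv_one]; exact hm _ (C.R.neg_lt _ (C.R.simple_lt i))
    · exact h1 _ (C.R.simple_lt i)
  let P : ℕ → Prop := fun r => r < D.nroots ∧ ∀ t ∈ T, C.xGL r t ∈ S
  have hrefl : ∀ s, P s → ∀ i < D.rank, P (D.reflectRoot i s) := by
    intro s ⟨hs, h⟩ i hi
    set i' : Fin D.rank := ⟨i, hi⟩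
    have hr : D.reflectRoot i s = (C.hR.sPerm i' ⟨s, hs⟩ : Fin D.nroots).val :=
      (C.hR.sPerm_val i' ⟨s, hs⟩).symm
    refine ⟨hr ▸ (C.hR.sPerm i' ⟨s, hs⟩).isLt, fun t ht => ?_⟩
    obtain ⟨-, e, he⟩ := C.acts_nS i'
    obtain ⟨he1, -, he3⟩ := he ⟨s, hs⟩
    have hmem : C.xGL (D.reflectRoot i s) ((e s : F) * t) ∈ S := by
      rw [hr, ← he3 t]
      exact mul_mem (mul_mem (hn i') (h t ht)) (inv_mem (hn i'))
    rcases he1 with he1 | he1
    · simpa [show e s = 1 from he1] using hmem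
    · have h' : C.xGL (D.reflectRoot i s) (-t) ∈ S := by simpa [show e s = -1 from he1] using hmem
      simpa [C.xGL_inv] using inv_mem h'
  have htopP : P (topRoot D) := ⟨hB.top_pos.1, htop⟩
  have hlong : P (D.simple i₀) :=
    bfs_induction P hrefl 80 _ _ (by simp [htopP]) (by simp [htopP]) _ hB.i_long
  have hs0 : P s₀ := by
    rcases hB.cartan with h | h
    · rw [h]; exact htopP
    refine ⟨hB.s_lt, fun t ht => ?_⟩
    rcases eq_or_ne t 0 with rfl | ht0
    · rw [C.xGL_zero]; exact one_mem _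
    set i : Fin D.rank := ⟨i₀, hB.i_lt⟩
    have hneg : ∀ u ∈ T, C.xGL (D.neg (D.simple i₀)) u ∈ S := fun u hu =>
      ((show D.reflectRoot i₀ (D.simple i₀) = D.neg (D.simple i₀) by
        simp [ChevalleyDatum.reflectRoot]) ▸ (hrefl _ hlong i₀ hB.i_lt)).2 u hu
    have hh : C.hGL (D.simple i₀) t⁻¹ ∈ S := by
      refine Subgroup.list_prod_mem _ fun x hx => ?_
      simp only [ChevalleyDatum.hWord, ChevalleyDatum.nWord, List.cons_append, List.nil_append,
        List.map_cons, List.map_nil, List.mem_cons, List.not_mem_nil, or_false] at hx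
      have hi := C.R.simple_lt i
      have hA : C.xGL (D.simple i₀) t⁻¹ ∈ S := hlong.2 _ (hT t ht)
      have hB' : C.xGL (D.neg (D.simple i₀)) (-(t⁻¹)⁻¹) ∈ S := by
        rw [inv_inv, ← C.xGL_inv]; exact inv_mem (hneg t ht)
      have hC : C.xGL (D.simple i₀) (-1) ∈ S := by rw [← C.xGL_inv]; exact inv_mem (h1 _ hi)
      have hD : C.xGL (D.neg (D.simple i₀)) (-(-1 : F)⁻¹) ∈ S := by
        rw [inv_neg, inv_one, neg_neg]; exact h1 _ (C.R.neg_lt _ hi)
      rcases hx with rfl | rfl | rfl | rfl | rfl | rfl <;> assumption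
    have hc := C.hGL_simple i (Units.mk0 t⁻¹ (inv_ne_zero ht0))
    have ha := C.acts_torus (Pi.mulSingle i (Units.mk0 t⁻¹ (inv_ne_zero ht0))) ⟨s₀, hB.s_lt⟩ (1 : F)
    rw [C.R.torusChar_single i _ hB.s_lt, h] at ha
    rw [RootData.torusSingle] at hc
    rw [← hc] at ha
    have := mul_mem (mul_mem hh (h1 s₀ hB.s_lt)) (inv_mem hh)
    simp only [Units.val_mk0, i] at ha
    rw [ha] at this
    simpa using this
  intro r hr t ht
  exact (bfs_induction P hrefl 80 _ _ (by simp [htopP, hs0]) (by simp [htopP, hs0]) r (hB.orbit r hr)).2 t ht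

end CfsgLib.SubfieldOver
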