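import Cfsg.Agent.Lib.ChevStr.InstanceTables
import Cfsg.Prelude.Def_ChevAutomorphisms

/-!
Table checks around the highest root of a Chevalley datum: the radical `Q` of its parabolic, and
triples of roots in `Q` used to compare the parameters of a conjugate of the lowest root group.
-/

set_option autoImplicit false

namespace CfsgLib.SubfieldOver

open Cfsg.Lie

variable (D : ChevalleyDatum)

/-- The highest root. -/
abbrev topRoot : ℕ := D.nroots - 1

/-- Distinct, non-opposite roots whose root elements commute. -/
def cm (a b : ℕ) : Bool :=
  decide (b ≠ a) && decide (b ≠ D.neg a) && (D.commTerms a b).isEmpty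

/-- The commutator of the two root groups is the single term `±tu` at the root `c`. -/
def oneTerm (a b c : ℕ) : Bool :=
  decide (b ≠ a) && decide (b ≠ D.neg a) &&
    match D.commTerms a b with
    | [(c', N, 1, 1)] => decide (c' = c) && decide (N.natAbs = 1)
    | _ => false

/-- The roots of the unipotent radical attached to the highest root. -/
def qList : List ℕ :=
  (List.range D.nroots).filter fun r => decide (D.IsPosRoot r) && decide (0 < D.pairing (topRoot D) r)

/-- Breadth first search along the fundamental reflections. -/
def bfs : ℕ → List ℕ → List ℕ → List ℕ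
  | 0, _, seen => seen
  | fuel + 1, front, seen =>
    let new := ((front.flatMap fun s => (List.range D.rank).map fun i => D.reflectRoot i s).filter
      fun s => !decide (s ∈ seen)).dedup
    if new.isEmpty then seen else bfs fuel new (new ++ seen)

/-- The facts used for every type; `s₀` is a root with Cartan integer `-1` at the long simple root
`i₀`, or `s₀` is the highest root. -/
def baseOK (s₀ i₀ : ℕ) : Bool :=
  decide (0 < D.nroots) && decide (D.neg (topRoot D) = 0) && decide (D.neg 0 = topRoot D) &&
  decide (D.IsPosRoot (topRoot D)) && decide (topRoot D ∈ qList D) &&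
  (decide (i₀ < D.rank) && decide (s₀ < D.nroots) &&
    decide (D.simple i₀ ∈ bfs D 80 [topRoot D] [topRoot D]) &&
    (decide (s₀ = topRoot D) || decide (D.cartan i₀ s₀ = -1))) &&
  ((List.range D.nroots).all fun s => decide (s ∈ bfs D 80 [topRoot D, s₀] [topRoot D, s₀])) &&
  ((D.chain.getD (topRoot D) #[]).toList.all fun e => decide (e.2.size ≤ 1)) &&
  ((List.range D.nroots).all fun p => !decide (D.IsPosRoot p) ||
    ((decide (p = topRoot D) || cm D p (topRoot D)) &&
      (decide (p ∈ qList D) || cm D p 0) &&
      ((D.chain.getD p #[]).toList.all fun e =>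
        decide (e.1 ≠ topRoot D) && e.2.toList.all fun c => decide (c.1 ≠ 0)) &&
      (qList D).all fun s => decide (s = p) ||
        (decide (s ≠ D.neg p) && (D.commTerms p s).all fun c => decide (c.1 ∈ qList D))))

/-- A long root `g` in `Q` with partner `g'` (sum the highest root). -/
def pairOK (g g' : ℕ) : Bool :=
  decide (g ∈ qList D) && decide (g' ∈ qList D) && oneTerm D g g' (topRoot D) &&
  ((qList D).all fun q => decide (q = g) || cm D g q || oneTerm D g q (topRoot D)) &&
  oneTerm D 0 g (D.neg g') && oneTerm D (topRoot D) (D.neg g') g &&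
  cm D g (D.neg g') && cm D 0 (D.neg g') && decide (g ≠ topRoot D) && decide (g' ≠ topRoot D)

/-- Two pairs linked by a positive root `e` outside `Q`. -/
def tripleOK (g₁ g₁' g₂ g₂' e : ℕ) : Bool :=
  pairOK D g₁ g₁' && pairOK D g₂ g₂' && decide (D.IsPosRoot e) && !decide (e ∈ qList D) &&
  decide (e ≠ topRoot D) && oneTerm D e g₁ g₂ && cm D e g₂

end CfsgLib.SubfieldOver
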