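import Cfsg.Agent.Lib.SubfieldOver.Chunks

/-! The checks around the highest root for E7, in pieces. -/

set_option autoImplicit false

namespace CfsgLib.SubfieldOver.ChecksE7

open Cfsg.Lie

/-- The radical. -/
def qs : List ℕ :=
  [93, 94, 95, 96, 97, 98, 99, 100, 101, 102, 103, 104, 105, 106, 107, 108, 109, 110, 111, 112,
    113, 114, 115, 116, 117, 118, 119, 120, 121, 122, 123, 124, 125]

private theorem q0 : (List.range' 0 42).filter (fun r => decide ((chevE7).IsPosRoot r) &&
    decide (0 < (chevE7).pairing (topRoot chevE7) r)) = ([] : List ℕ) := by decide +kernel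

private theorem q1 : (List.range' 42 42).filter (fun r => decide ((chevE7).IsPosRoot r) &&
    decide (0 < (chevE7).pairing (topRoot chevE7) r)) = ([] : List ℕ) := by decide +kernel

private theorem q2 : (List.range' 84 42).filter (fun r => decide ((chevE7).IsPosRoot r) &&
    decide (0 < (chevE7).pairing (topRoot chevE7) r)) = ([93, 94, 95, 96, 97, 98, 99, 100, 101, 102, 103, 104, 105, 106, 107, 108, 109, 110, 111, 112,
    113, 114, 115, 116, 117, 118, 119, 120, 121, 122, 123, 124, 125] : List ℕ) := by decide +kernel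

theorem qList_eq : qList chevE7 = qs := by
  have h := filter_range'_append q0 (filter_range'_append q1 (q2))
  rw [qList, show (chevE7).nroots = 126 from by decide +kernel, List.range_eq_range']
  exact h

/-- A state of the search. -/
def st1_0 : List ℕ × List ℕ :=
  ([92, 107, 111, 112],
    [92, 107, 111, 112, 108, 113, 115, 114, 116, 119, 117, 120, 118, 121, 122, 123, 124, 125])

theorem step1_0 : bfsIter chevE7 8 ([125], [125]) = st1_0 := by decide +kernel

/-- A state of the search. -/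
def st1_1 : List ℕ × List ℕ :=
  ([63, 64, 66, 78, 69, 73, 93],
    [63, 64, 66, 78, 69, 73, 93, 65, 67, 70, 79, 74, 94, 68, 71, 80, 75, 83, 95, 72, 81, 76, 84, 96,
    99, 82, 77, 85, 97, 87, 100, 86, 98, 88, 101, 103, 89, 102, 90, 104, 109, 91, 105, 106, 110,
    92, 107, 111, 112, 108, 113, 115, 114, 116, 119, 117, 120, 118, 121, 122, 123, 124, 125])

theorem step1_1 : bfsIter chevE7 8 st1_0 = st1_1 := by decide +kernel

/-- A state of the search. -/
def st1_2 : List ℕ × List ℕ :=
  ([37, 39, 22, 24, 27],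
    [37, 39, 22, 24, 27, 43, 38, 40, 48, 25, 28, 44, 53, 41, 49, 26, 29, 57, 45, 54, 42, 50, 30, 60,
    58, 46, 55, 51, 31, 62, 61, 59, 47, 56, 52, 32, 63, 64, 66, 78, 69, 73, 93, 65, 67, 70, 79,
    74, 94, 68, 71, 80, 75, 83, 95, 72, 81, 76, 84, 96, 99, 82, 77, 85, 97, 87, 100, 86, 98, 88,
    101, 103, 89, 102, 90, 104, 109, 91, 105, 106, 110, 92, 107, 111, 112, 108, 113, 115, 114,
    116, 119, 117, 120, 118, 121, 122, 123, 124, 125])

theorem step1_2 : bfsIter chevE7 6 st1_1 = st1_2 := by decide +kernel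

/-- A state of the search. -/
def st1_3 : List ℕ × List ℕ :=
  ([5, 8],
    [5, 8, 6, 9, 11, 10, 12, 17, 33, 13, 14, 18, 34, 15, 19, 20, 35, 36, 16, 21, 23, 37, 39, 22, 24,
    27, 43, 38, 40, 48, 25, 28, 44, 53, 41, 49, 26, 29, 57, 45, 54, 42, 50, 30, 60, 58, 46, 55,
    51, 31, 62, 61, 59, 47, 56, 52, 32, 63, 64, 66, 78, 69, 73, 93, 65, 67, 70, 79, 74, 94, 68,
    71, 80, 75, 83, 95, 72, 81, 76, 84, 96, 99, 82, 77, 85, 97, 87, 100, 86, 98, 88, 101, 103,
    89, 102, 90, 104, 109, 91, 105, 106, 110, 92, 107, 111, 112, 108, 113, 115, 114, 116, 119,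
    117, 120, 118, 121, 122, 123, 124, 125])

theorem step1_3 : bfsIter chevE7 6 st1_2 = st1_3 := by decide +kernel

/-- A state of the search. -/
def st1_4 : List ℕ × List ℕ :=
  ([],
    [0, 1, 2, 3, 4, 7, 5, 8, 6, 9, 11, 10, 12, 17, 33, 13, 14, 18, 34, 15, 19, 20, 35, 36, 16, 21,
    23, 37, 39, 22, 24, 27, 43, 38, 40, 48, 25, 28, 44, 53, 41, 49, 26, 29, 57, 45, 54, 42, 50,
    30, 60, 58, 46, 55, 51, 31, 62, 61, 59, 47, 56, 52, 32, 63, 64, 66, 78, 69, 73, 93, 65, 67,
    70, 79, 74, 94, 68, 71, 80, 75, 83, 95, 72, 81, 76, 84, 96, 99, 82, 77, 85, 97, 87, 100, 86,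
    98, 88, 101, 103, 89, 102, 90, 104, 109, 91, 105, 106, 110, 92, 107, 111, 112, 108, 113,
    115, 114, 116, 119, 117, 120, 118, 121, 122, 123, 124, 125])

theorem step1_4 : bfsIter chevE7 6 st1_3 = st1_4 := by decide +kernel

/-- A state of the search. -/
def st1_5 : List ℕ × List ℕ :=
  ([],
    [0, 1, 2, 3, 4, 7, 5, 8, 6, 9, 11, 10, 12, 17, 33, 13, 14, 18, 34, 15, 19, 20, 35, 36, 16, 21,
    23, 37, 39, 22, 24, 27, 43, 38, 40, 48, 25, 28, 44, 53, 41, 49, 26, 29, 57, 45, 54, 42, 50,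
    30, 60, 58, 46, 55, 51, 31, 62, 61, 59, 47, 56, 52, 32, 63, 64, 66, 78, 69, 73, 93, 65, 67,
    70, 79, 74, 94, 68, 71, 80, 75, 83, 95, 72, 81, 76, 84, 96, 99, 82, 77, 85, 97, 87, 100, 86,
    98, 88, 101, 103, 89, 102, 90, 104, 109, 91, 105, 106, 110, 92, 107, 111, 112, 108, 113,
    115, 114, 116, 119, 117, 120, 118, 121, 122, 123, 124, 125])

theorem step1_5 : bfsIter chevE7 6 st1_4 = st1_5 := by decide +kernel

/-- A state of the search. -/
def st1_6 : List ℕ × List ℕ :=
  ([],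
    [0, 1, 2, 3, 4, 7, 5, 8, 6, 9, 11, 10, 12, 17, 33, 13, 14, 18, 34, 15, 19, 20, 35, 36, 16, 21,
    23, 37, 39, 22, 24, 27, 43, 38, 40, 48, 25, 28, 44, 53, 41, 49, 26, 29, 57, 45, 54, 42, 50,
    30, 60, 58, 46, 55, 51, 31, 62, 61, 59, 47, 56, 52, 32, 63, 64, 66, 78, 69, 73, 93, 65, 67,
    70, 79, 74, 94, 68, 71, 80, 75, 83, 95, 72, 81, 76, 84, 96, 99, 82, 77, 85, 97, 87, 100, 86,
    98, 88, 101, 103, 89, 102, 90, 104, 109, 91, 105, 106, 110, 92, 107, 111, 112, 108, 113,
    115, 114, 116, 119, 117, 120, 118, 121, 122, 123, 124, 125])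

theorem step1_6 : bfsIter chevE7 8 st1_5 = st1_6 := by decide +kernel

/-- A state of the search. -/
def st1_7 : List ℕ × List ℕ :=
  ([],
    [0, 1, 2, 3, 4, 7, 5, 8, 6, 9, 11, 10, 12, 17, 33, 13, 14, 18, 34, 15, 19, 20, 35, 36, 16, 21,
    23, 37, 39, 22, 24, 27, 43, 38, 40, 48, 25, 28, 44, 53, 41, 49, 26, 29, 57, 45, 54, 42, 50,
    30, 60, 58, 46, 55, 51, 31, 62, 61, 59, 47, 56, 52, 32, 63, 64, 66, 78, 69, 73, 93, 65, 67,
    70, 79, 74, 94, 68, 71, 80, 75, 83, 95, 72, 81, 76, 84, 96, 99, 82, 77, 85, 97, 87, 100, 86,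
    98, 88, 101, 103, 89, 102, 90, 104, 109, 91, 105, 106, 110, 92, 107, 111, 112, 108, 113,
    115, 114, 116, 119, 117, 120, 118, 121, 122, 123, 124, 125])

theorem step1_7 : bfsIter chevE7 32 st1_6 = st1_7 := by decide +kernel

theorem orbit1 : bfsIter chevE7 80 ([125], [125]) = st1_7 :=
  (bfsIter_chain (c := 80) rfl (bfsIter_chain (c := 48) rfl (bfsIter_chain (c := 40) rfl (bfsIter_chain (c := 34) rfl (bfsIter_chain (c := 28) rfl (bfsIter_chain (c := 22) rfl (bfsIter_chain (c := 16) rfl step1_0 step1_1) step1_2) step1_3) step1_4) step1_5) step1_6) step1_7)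

/-- A state of the search. -/
def st2_0 : List ℕ × List ℕ :=
  ([92, 107, 111, 112],
    [92, 107, 111, 112, 108, 113, 115, 114, 116, 119, 117, 120, 118, 121, 122, 123, 124, 125, 125])

theorem step2_0 : bfsIter chevE7 8 ([125, 125], [125, 125]) = st2_0 := by decide +kernel

/-- A state of the search. -/
def st2_1 : List ℕ × List ℕ :=
  ([63, 64, 66, 78, 69, 73, 93],
    [63, 64, 66, 78, 69, 73, 93, 65, 67, 70, 79, 74, 94, 68, 71, 80, 75, 83, 95, 72, 81, 76, 84, 96,
    99, 82, 77, 85, 97, 87, 100, 86, 98, 88, 101, 103, 89, 102, 90, 104, 109, 91, 105, 106, 110,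
    92, 107, 111, 112, 108, 113, 115, 114, 116, 119, 117, 120, 118, 121, 122, 123, 124, 125,
    125])

theorem step2_1 : bfsIter chevE7 8 st2_0 = st2_1 := by decide +kernel

/-- A state of the search. -/
def st2_2 : List ℕ × List ℕ :=
  ([37, 39, 22, 24, 27],
    [37, 39, 22, 24, 27, 43, 38, 40, 48, 25, 28, 44, 53, 41, 49, 26, 29, 57, 45, 54, 42, 50, 30, 60,
    58, 46, 55, 51, 31, 62, 61, 59, 47, 56, 52, 32, 63, 64, 66, 78, 69, 73, 93, 65, 67, 70, 79,
    74, 94, 68, 71, 80, 75, 83, 95, 72, 81, 76, 84, 96, 99, 82, 77, 85, 97, 87, 100, 86, 98, 88,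
    101, 103, 89, 102, 90, 104, 109, 91, 105, 106, 110, 92, 107, 111, 112, 108, 113, 115, 114,
    116, 119, 117, 120, 118, 121, 122, 123, 124, 125, 125])

theorem step2_2 : bfsIter chevE7 6 st2_1 = st2_2 := by decide +kernel

/-- A state of the search. -/
def st2_3 : List ℕ × List ℕ :=
  ([5, 8],
    [5, 8, 6, 9, 11, 10, 12, 17, 33, 13, 14, 18, 34, 15, 19, 20, 35, 36, 16, 21, 23, 37, 39, 22, 24,
    27, 43, 38, 40, 48, 25, 28, 44, 53, 41, 49, 26, 29, 57, 45, 54, 42, 50, 30, 60, 58, 46, 55,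
    51, 31, 62, 61, 59, 47, 56, 52, 32, 63, 64, 66, 78, 69, 73, 93, 65, 67, 70, 79, 74, 94, 68,
    71, 80, 75, 83, 95, 72, 81, 76, 84, 96, 99, 82, 77, 85, 97, 87, 100, 86, 98, 88, 101, 103,
    89, 102, 90, 104, 109, 91, 105, 106, 110, 92, 107, 111, 112, 108, 113, 115, 114, 116, 119,
    117, 120, 118, 121, 122, 123, 124, 125, 125])

theorem step2_3 : bfsIter chevE7 6 st2_2 = st2_3 := by decide +kernel

/-- A state of the search. -/
def st2_4 : List ℕ × List ℕ :=
  ([],
    [0, 1, 2, 3, 4, 7, 5, 8, 6, 9, 11, 10, 12, 17, 33, 13, 14, 18, 34, 15, 19, 20, 35, 36, 16, 21,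
    23, 37, 39, 22, 24, 27, 43, 38, 40, 48, 25, 28, 44, 53, 41, 49, 26, 29, 57, 45, 54, 42, 50,
    30, 60, 58, 46, 55, 51, 31, 62, 61, 59, 47, 56, 52, 32, 63, 64, 66, 78, 69, 73, 93, 65, 67,
    70, 79, 74, 94, 68, 71, 80, 75, 83, 95, 72, 81, 76, 84, 96, 99, 82, 77, 85, 97, 87, 100, 86,
    98, 88, 101, 103, 89, 102, 90, 104, 109, 91, 105, 106, 110, 92, 107, 111, 112, 108, 113,
    115, 114, 116, 119, 117, 120, 118, 121, 122, 123, 124, 125, 125])

theorem step2_4 : bfsIter chevE7 6 st2_3 = st2_4 := by decide +kernel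

/-- A state of the search. -/
def st2_5 : List ℕ × List ℕ :=
  ([],
    [0, 1, 2, 3, 4, 7, 5, 8, 6, 9, 11, 10, 12, 17, 33, 13, 14, 18, 34, 15, 19, 20, 35, 36, 16, 21,
    23, 37, 39, 22, 24, 27, 43, 38, 40, 48, 25, 28, 44, 53, 41, 49, 26, 29, 57, 45, 54, 42, 50,
    30, 60, 58, 46, 55, 51, 31, 62, 61, 59, 47, 56, 52, 32, 63, 64, 66, 78, 69, 73, 93, 65, 67,
    70, 79, 74, 94, 68, 71, 80, 75, 83, 95, 72, 81, 76, 84, 96, 99, 82, 77, 85, 97, 87, 100, 86,
    98, 88, 101, 103, 89, 102, 90, 104, 109, 91, 105, 106, 110, 92, 107, 111, 112, 108, 113,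
    115, 114, 116, 119, 117, 120, 118, 121, 122, 123, 124, 125, 125])

theorem step2_5 : bfsIter chevE7 6 st2_4 = st2_5 := by decide +kernel

/-- A state of the search. -/
def st2_6 : List ℕ × List ℕ :=
  ([],
    [0, 1, 2, 3, 4, 7, 5, 8, 6, 9, 11, 10, 12, 17, 33, 13, 14, 18, 34, 15, 19, 20, 35, 36, 16, 21,
    23, 37, 39, 22, 24, 27, 43, 38, 40, 48, 25, 28, 44, 53, 41, 49, 26, 29, 57, 45, 54, 42, 50,
    30, 60, 58, 46, 55, 51, 31, 62, 61, 59, 47, 56, 52, 32, 63, 64, 66, 78, 69, 73, 93, 65, 67,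
    70, 79, 74, 94, 68, 71, 80, 75, 83, 95, 72, 81, 76, 84, 96, 99, 82, 77, 85, 97, 87, 100, 86,
    98, 88, 101, 103, 89, 102, 90, 104, 109, 91, 105, 106, 110, 92, 107, 111, 112, 108, 113,
    115, 114, 116, 119, 117, 120, 118, 121, 122, 123, 124, 125, 125])

theorem step2_6 : bfsIter chevE7 8 st2_5 = st2_6 := by decide +kernel

/-- A state of the search. -/
def st2_7 : List ℕ × List ℕ :=
  ([],
    [0, 1, 2, 3, 4, 7, 5, 8, 6, 9, 11, 10, 12, 17, 33, 13, 14, 18, 34, 15, 19, 20, 35, 36, 16, 21,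
    23, 37, 39, 22, 24, 27, 43, 38, 40, 48, 25, 28, 44, 53, 41, 49, 26, 29, 57, 45, 54, 42, 50,
    30, 60, 58, 46, 55, 51, 31, 62, 61, 59, 47, 56, 52, 32, 63, 64, 66, 78, 69, 73, 93, 65, 67,
    70, 79, 74, 94, 68, 71, 80, 75, 83, 95, 72, 81, 76, 84, 96, 99, 82, 77, 85, 97, 87, 100, 86,
    98, 88, 101, 103, 89, 102, 90, 104, 109, 91, 105, 106, 110, 92, 107, 111, 112, 108, 113,
    115, 114, 116, 119, 117, 120, 118, 121, 122, 123, 124, 125, 125])

theorem step2_7 : bfsIter chevE7 32 st2_6 = st2_7 := by decide +kernel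

theorem orbit2 : bfsIter chevE7 80 ([125, 125], [125, 125]) = st2_7 :=
  (bfsIter_chain (c := 80) rfl (bfsIter_chain (c := 48) rfl (bfsIter_chain (c := 40) rfl (bfsIter_chain (c := 34) rfl (bfsIter_chain (c := 28) rfl (bfsIter_chain (c := 22) rfl (bfsIter_chain (c := 16) rfl step2_0 step2_1) step2_2) step2_3) step2_4) step2_5) step2_6) step2_7)

theorem side0 : (List.range' 0 14).all (fun p => sideOK chevE7 qs p) = true := by decide +kernel

theorem side1 : (List.range' 14 14).all (fun p => sideOK chevE7 qs p) = true := by decide +kernel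

theorem side2 : (List.range' 28 14).all (fun p => sideOK chevE7 qs p) = true := by decide +kernel

theorem side3 : (List.range' 42 14).all (fun p => sideOK chevE7 qs p) = true := by decide +kernel

theorem side4 : (List.range' 56 14).all (fun p => sideOK chevE7 qs p) = true := by decide +kernel

theorem side5 : (List.range' 70 14).all (fun p => sideOK chevE7 qs p) = true := by decide +kernel

theorem side6 : (List.range' 84 14).all (fun p => sideOK chevE7 qs p) = true := by decide +kernel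

theorem side7 : (List.range' 98 14).all (fun p => sideOK chevE7 qs p) = true := by decide +kernel

theorem side8 : (List.range' 112 14).all (fun p => sideOK chevE7 qs p) = true := by decide +kernel

theorem side_all : ∀ p, 0 ≤ p → p < 126 → sideOK chevE7 qs p = true :=
  forall_chunk side0 (forall_chunk side1 (forall_chunk side2 (forall_chunk side3 (forall_chunk side4 (forall_chunk side5 (forall_chunk side6 (forall_chunk side7 (forall_chunk_end side8 le_rfl))))))))

theorem closed0 : (List.range' 0 14).all (fun p => closedOK chevE7 qs p) = true := by decide +kernel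

theorem closed1 : (List.range' 14 14).all (fun p => closedOK chevE7 qs p) = true := by decide +kernel

theorem closed2 : (List.range' 28 14).all (fun p => closedOK chevE7 qs p) = true := by decide +kernel

theorem closed3 : (List.range' 42 14).all (fun p => closedOK chevE7 qs p) = true := by decide +kernel

theorem closed4 : (List.range' 56 14).all (fun p => closedOK chevE7 qs p) = true := by decide +kernel

theorem closed5 : (List.range' 70 14).all (fun p => closedOK chevE7 qs p) = true := by decide +kernel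

theorem closed6 : (List.range' 84 14).all (fun p => closedOK chevE7 qs p) = true := by decide +kernel

theorem closed7 : (List.range' 98 14).all (fun p => closedOK chevE7 qs p) = true := by decide +kernel

theorem closed8 : (List.range' 112 14).all (fun p => closedOK chevE7 qs p) = true := by decide +kernel

theorem closed_all : ∀ p, 0 ≤ p → p < 126 → closedOK chevE7 qs p = true :=
  forall_chunk closed0 (forall_chunk closed1 (forall_chunk closed2 (forall_chunk closed3 (forall_chunk closed4 (forall_chunk closed5 (forall_chunk closed6 (forall_chunk closed7 (forall_chunk_end closed8 le_rfl))))))))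

theorem head : headOK chevE7 125 0 qs st1_7.2 st2_7.2 = true := by decide +kernel

theorem top_nroots : topRoot chevE7 = 125 ∧ (chevE7).nroots = 126 := by decide +kernel

/-- The checks around the highest root. -/
theorem base : Base chevE7 125 0 :=
  Base.of_parts (F₁ := st1_7.1) (F₂ := st2_7.1) qList_eq
    (by rw [top_nroots.1]; exact orbit1) (by rw [top_nroots.1]; exact orbit2) head
    (by rw [top_nroots.2]; exact side_all) (by rw [top_nroots.2]; exact closed_all)

theorem pair1 : pairOKWith chevE7 qs 97 120 = true := by decide +kernel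

theorem pair2 : pairOKWith chevE7 qs 98 119 = true := by decide +kernel

theorem link : (decide ((chevE7).IsPosRoot 63) && !decide (63 ∈ qs) &&
    decide (63 ≠ topRoot chevE7) && oneTerm chevE7 63 97 98 &&
    cm chevE7 63 98) = true := by decide +kernel

theorem triple : tripleOK chevE7 97 120 98 119 63 = true :=
  tripleOK_of_parts qList_eq pair1 pair2 link

end CfsgLib.SubfieldOver.ChecksE7
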