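import Cfsg.Agent.Lib.SubfieldOver.E8Radical

/-! Closure of the radical of E8, first part. -/

set_option autoImplicit false

namespace CfsgLib.SubfieldOver.ChecksE8

open Cfsg.Lie

theorem closed0 : (List.range' 0 8).all (fun p => closedOK chevE8 qs p) = true := by decide +kernel

theorem closed1 : (List.range' 8 8).all (fun p => closedOK chevE8 qs p) = true := by decide +kernel

theorem closed2 : (List.range' 16 8).all (fun p => closedOK chevE8 qs p) = true := by decide +kernel

theorem closed3 : (List.range' 24 8).all (fun p => closedOK chevE8 qs p) = true := by decide +kernel

theorem closed4 : (List.range' 32 8).all (fun p => closedOK chevE8 qs p) = true := by decide +kernel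

theorem closed5 : (List.range' 40 8).all (fun p => closedOK chevE8 qs p) = true := by decide +kernel

theorem closed6 : (List.range' 48 8).all (fun p => closedOK chevE8 qs p) = true := by decide +kernel

theorem closed7 : (List.range' 56 8).all (fun p => closedOK chevE8 qs p) = true := by decide +kernel

theorem closed8 : (List.range' 64 8).all (fun p => closedOK chevE8 qs p) = true := by decide +kernel

theorem closed9 : (List.range' 72 8).all (fun p => closedOK chevE8 qs p) = true := by decide +kernel

theorem closed10 : (List.range' 80 8).all (fun p => closedOK chevE8 qs p) = true := by decide +kernel

theorem closed11 : (List.range' 88 8).all (fun p => closedOK chevE8 qs p) = true := by decide +kernel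

theorem closed12 : (List.range' 96 8).all (fun p => closedOK chevE8 qs p) = true := by decide +kernel

theorem closed13 : (List.range' 104 8).all (fun p => closedOK chevE8 qs p) = true := by decide +kernel

theorem closed14 : (List.range' 112 8).all (fun p => closedOK chevE8 qs p) = true := by decide +kernel

theorem closed15 : (List.range' 120 8).all (fun p => closedOK chevE8 qs p) = true := by decide +kernel

theorem closed16 : (List.range' 128 8).all (fun p => closedOK chevE8 qs p) = true := by decide +kernel

theorem closed17 : (List.range' 136 8).all (fun p => closedOK chevE8 qs p) = true := by decide +kernel

theorem closed18 : (List.range' 144 8).all (fun p => closedOK chevE8 qs p) = true := by decide +kernel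

theorem closed19 : (List.range' 152 8).all (fun p => closedOK chevE8 qs p) = true := by decide +kernel

theorem closed20 : (List.range' 160 8).all (fun p => closedOK chevE8 qs p) = true := by decide +kernel

theorem closed21 : (List.range' 168 8).all (fun p => closedOK chevE8 qs p) = true := by decide +kernel

end CfsgLib.SubfieldOver.ChecksE8
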