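import Cfsg.Agent.Lib.SubfieldOver.E8Radical

/-! Closure of the radical of E8, second part. -/

set_option autoImplicit false

namespace CfsgLib.SubfieldOver.ChecksE8

open Cfsg.Lie

theorem closed22 : (List.range' 176 8).all (fun p => closedOK chevE8 qs p) = true := by decide +kernel

theorem closed23 : (List.range' 184 8).all (fun p => closedOK chevE8 qs p) = true := by decide +kernel

theorem closed24 : (List.range' 192 8).all (fun p => closedOK chevE8 qs p) = true := by decide +kernel

theorem closed25 : (List.range' 200 8).all (fun p => closedOK chevE8 qs p) = true := by decide +kernel

theorem closed26 : (List.range' 208 8).all (fun p => closedOK chevE8 qs p) = true := by decide +kernel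

theorem closed27 : (List.range' 216 8).all (fun p => closedOK chevE8 qs p) = true := by decide +kernel

theorem closed28 : (List.range' 224 8).all (fun p => closedOK chevE8 qs p) = true := by decide +kernel

theorem closed29 : (List.range' 232 8).all (fun p => closedOK chevE8 qs p) = true := by decide +kernel

end CfsgLib.SubfieldOver.ChecksE8
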