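import Cfsg.Agent.Lib.SubfieldOver.E8Radical

/-! The checks of E8 against the highest and lowest roots. -/

set_option autoImplicit false

namespace CfsgLib.SubfieldOver.ChecksE8

open Cfsg.Lie

theorem side0 : (List.range' 0 8).all (fun p => sideOK chevE8 qs p) = true := by decide +kernel

theorem side1 : (List.range' 8 8).all (fun p => sideOK chevE8 qs p) = true := by decide +kernel

theorem side2 : (List.range' 16 8).all (fun p => sideOK chevE8 qs p) = true := by decide +kernel

theorem side3 : (List.range' 24 8).all (fun p => sideOK chevE8 qs p) = true := by decide +kernel

theorem side4 : (List.range' 32 8).all (fun p => sideOK chevE8 qs p) = true := by decide +kernel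

theorem side5 : (List.range' 40 8).all (fun p => sideOK chevE8 qs p) = true := by decide +kernel

theorem side6 : (List.range' 48 8).all (fun p => sideOK chevE8 qs p) = true := by decide +kernel

theorem side7 : (List.range' 56 8).all (fun p => sideOK chevE8 qs p) = true := by decide +kernel

theorem side8 : (List.range' 64 8).all (fun p => sideOK chevE8 qs p) = true := by decide +kernel

theorem side9 : (List.range' 72 8).all (fun p => sideOK chevE8 qs p) = true := by decide +kernel

theorem side10 : (List.range' 80 8).all (fun p => sideOK chevE8 qs p) = true := by decide +kernel

theorem side11 : (List.range' 88 8).all (fun p => sideOK chevE8 qs p) = true := by decide +kernel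

theorem side12 : (List.range' 96 8).all (fun p => sideOK chevE8 qs p) = true := by decide +kernel

theorem side13 : (List.range' 104 8).all (fun p => sideOK chevE8 qs p) = true := by decide +kernel

theorem side14 : (List.range' 112 8).all (fun p => sideOK chevE8 qs p) = true := by decide +kernel

theorem side15 : (List.range' 120 8).all (fun p => sideOK chevE8 qs p) = true := by decide +kernel

theorem side16 : (List.range' 128 8).all (fun p => sideOK chevE8 qs p) = true := by decide +kernel

theorem side17 : (List.range' 136 8).all (fun p => sideOK chevE8 qs p) = true := by decide +kernel

theorem side18 : (List.range' 144 8).all (fun p => sideOK chevE8 qs p) = true := by decide +kernel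

theorem side19 : (List.range' 152 8).all (fun p => sideOK chevE8 qs p) = true := by decide +kernel

theorem side20 : (List.range' 160 8).all (fun p => sideOK chevE8 qs p) = true := by decide +kernel

theorem side21 : (List.range' 168 8).all (fun p => sideOK chevE8 qs p) = true := by decide +kernel

theorem side22 : (List.range' 176 8).all (fun p => sideOK chevE8 qs p) = true := by decide +kernel

theorem side23 : (List.range' 184 8).all (fun p => sideOK chevE8 qs p) = true := by decide +kernel

theorem side24 : (List.range' 192 8).all (fun p => sideOK chevE8 qs p) = true := by decide +kernel

theorem side25 : (List.range' 200 8).all (fun p => sideOK chevE8 qs p) = true := by decide +kernel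

theorem side26 : (List.range' 208 8).all (fun p => sideOK chevE8 qs p) = true := by decide +kernel

theorem side27 : (List.range' 216 8).all (fun p => sideOK chevE8 qs p) = true := by decide +kernel

theorem side28 : (List.range' 224 8).all (fun p => sideOK chevE8 qs p) = true := by decide +kernel

theorem side29 : (List.range' 232 8).all (fun p => sideOK chevE8 qs p) = true := by decide +kernel

theorem side_all : ∀ p, 0 ≤ p → p < 240 → sideOK chevE8 qs p = true :=
  forall_chunk side0 (forall_chunk side1 (forall_chunk side2 (forall_chunk side3 (forall_chunk side4 (forall_chunk side5 (forall_chunk side6 (forall_chunk side7 (forall_chunk side8 (forall_chunk side9 (forall_chunk side10 (forall_chunk side11 (forall_chunk side12 (forall_chunk side13 (forall_chunk side14 (forall_chunk side15 (forall_chunk side16 (forall_chunk side17 (forall_chunk side18 (forall_chunk side19 (forall_chunk side20 (forall_chunk side21 (forall_chunk side22 (forall_chunk side23 (forall_chunk side24 (forall_chunk side25 (forall_chunk side26 (forall_chunk side27 (forall_chunk side28 (forall_chunk_end side29 le_rfl)))))))))))))))))))))))))))))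

end CfsgLib.SubfieldOver.ChecksE8
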