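import Cfsg.Agent.Lib.SubfieldOver.E8Orbit
import Cfsg.Agent.Lib.SubfieldOver.E8Side
import Cfsg.Agent.Lib.SubfieldOver.E8ClosedA
import Cfsg.Agent.Lib.SubfieldOver.E8ClosedB

/-! The checks around the highest root for E8. -/

set_option autoImplicit false

namespace CfsgLib.SubfieldOver.ChecksE8

open Cfsg.Lie

theorem closed_all : ∀ p, 0 ≤ p → p < 240 → closedOK chevE8 qs p = true :=
  forall_chunk closed0 (forall_chunk closed1 (forall_chunk closed2 (forall_chunk closed3 (forall_chunk closed4 (forall_chunk closed5 (forall_chunk closed6 (forall_chunk closed7 (forall_chunk closed8 (forall_chunk closed9 (forall_chunk closed10 (forall_chunk closed11 (forall_chunk closed12 (forall_chunk closed13 (forall_chunk closed14 (forall_chunk closed15 (forall_chunk closed16 (forall_chunk closed17 (forall_chunk closed18 (forall_chunk closed19 (forall_chunk closed20 (forall_chunk closed21 (forall_chunk closed22 (forall_chunk closed23 (forall_chunk closed24 (forall_chunk closed25 (forall_chunk closed26 (forall_chunk closed27 (forall_chunk closed28 (forall_chunk_end closed29 le_rfl)))))))))))))))))))))))))))))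

theorem head : headOK chevE8 239 0 qs st1_7.2 st2_7.2 = true := by decide +kernel

theorem top_nroots : topRoot chevE8 = 239 ∧ (chevE8).nroots = 240 := by decide +kernel

/-- The checks around the highest root. -/
theorem base : Base chevE8 239 0 :=
  Base.of_parts (F₁ := st1_7.1) (F₂ := st2_7.1) qList_eq
    (by rw [top_nroots.1]; exact orbit1) (by rw [top_nroots.1]; exact orbit2) head
    (by rw [top_nroots.2]; exact side_all) (by rw [top_nroots.2]; exact closed_all)

theorem pair1 : pairOKWith chevE8 qs 120 238 = true := by decide +kernel

theorem pair2 : pairOKWith chevE8 qs 122 237 = true := by decide +kernel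

theorem link : (decide ((chevE8).IsPosRoot 121) && !decide (121 ∈ qs) &&
    decide (121 ≠ topRoot chevE8) && oneTerm chevE8 121 120 122 &&
    cm chevE8 121 122) = true := by decide +kernel

theorem triple : tripleOK chevE8 120 238 122 237 121 = true :=
  tripleOK_of_parts qList_eq pair1 pair2 link

end CfsgLib.SubfieldOver.ChecksE8
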