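import Cfsg.Agent.Lib.SubfieldOver.Basic

/-!
The checks around the highest root, cut into pieces that keep the memory of a build small.
-/

set_option autoImplicit false

namespace CfsgLib.SubfieldOver

open Cfsg.Lie

variable {D : ChevalleyDatum}

/-- One layer of the search along the fundamental reflections. -/
def bfsStep (D : ChevalleyDatum) (st : List ℕ × List ℕ) : List ℕ × List ℕ :=
  let new := ((st.1.flatMap fun s => (List.range D.rank).map fun i => D.reflectRoot i s).filter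
    fun s => !decide (s ∈ st.2)).dedup
  (new, new ++ st.2)

/-- Several layers of the search. -/
def bfsIter (D : ChevalleyDatum) : ℕ → List ℕ × List ℕ → List ℕ × List ℕ
  | 0, st => st
  | n + 1, st => bfsIter D n (bfsStep D st)

theorem bfs_nil (n : ℕ) (seen : List ℕ) : bfs D n [] seen = seen := by
  cases n with
  | zero => rfl
  | succ n => simp [bfs]

theorem bfs_eq_bfsIter : ∀ (n : ℕ) (front seen : List ℕ),
    bfs D n front seen = (bfsIter D n (front, seen)).2
  | 0, _, _ => rfl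
  | n + 1, front, seen => by
    rw [bfsIter, ← bfs_eq_bfsIter n]
    simp only [bfs, bfsStep]
    split
    · next h =>
      rw [List.isEmpty_iff] at h
      rw [h, bfs_nil, List.nil_append]
    · rfl

theorem bfsIter_add : ∀ (a b : ℕ) (st : List ℕ × List ℕ),
    bfsIter D (a + b) st = bfsIter D b (bfsIter D a st)
  | 0, b, st => by rw [Nat.zero_add]; rfl
  | a + 1, b, st => by
    rw [Nat.add_right_comm, bfsIter, bfsIter, bfsIter_add a b]

theorem bfsIter_chain {a b c : ℕ} {s t u : List ℕ × List ℕ} (hc : a + b = c)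
    (h₁ : bfsIter D a s = t) (h₂ : bfsIter D b t = u) : bfsIter D c s = u := by
  rw [← hc, bfsIter_add, h₁, h₂]

theorem filter_range'_append {f : ℕ → Bool} {a k l : ℕ} {A B : List ℕ}
    (h₁ : (List.range' a k).filter f = A) (h₂ : (List.range' (a + k) l).filter f = B) :
    (List.range' a (k + l)).filter f = A ++ B := by
  rw [← List.range'_append_1, List.filter_append, h₁, h₂]

theorem forall_chunk {f : ℕ → Bool} {a k n : ℕ} (h₁ : (List.range' a k).all f = true)
    (h₂ : ∀ p, a + k ≤ p → p < n → f p = true) : ∀ p, a ≤ p → p < n → f p = true := by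
  intro p hp hn
  by_cases h : p < a + k
  · exact List.all_eq_true.1 h₁ p (List.mem_range'_1.2 ⟨hp, h⟩)
  · exact h₂ p (not_lt.1 h) hn

theorem forall_chunk_end {f : ℕ → Bool} {a k n : ℕ} (h₁ : (List.range' a k).all f = true)
    (h : n ≤ a + k) : ∀ p, a ≤ p → p < n → f p = true :=
  fun p hp hn => List.all_eq_true.1 h₁ p (List.mem_range'_1.2 ⟨hp, by omega⟩)

/-- The checks on a root against the highest and lowest roots. -/
def sideOK (D : ChevalleyDatum) (Q : List ℕ) (p : ℕ) : Bool :=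
  !decide (D.IsPosRoot p) || ((decide (p = topRoot D) || cm D p (topRoot D)) &&
    (decide (p ∈ Q) || cm D p 0) &&
    ((D.chain.getD p #[]).toList.all fun e =>
      decide (e.1 ≠ topRoot D) && e.2.toList.all fun c => decide (c.1 ≠ 0)))

/-- The radical is closed under commutators with a root. -/
def closedOK (D : ChevalleyDatum) (Q : List ℕ) (p : ℕ) : Bool :=
  !decide (D.IsPosRoot p) || Q.all fun s => decide (s = p) ||
    (decide (s ≠ D.neg p) && (D.commTerms p s).all fun c => decide (c.1 ∈ Q))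

/-- The small checks. -/
def headOK (D : ChevalleyDatum) (s₀ i₀ : ℕ) (Q S₁ S₂ : List ℕ) : Bool :=
  decide (0 < D.nroots) && decide (D.neg (topRoot D) = 0) && decide (D.neg 0 = topRoot D) &&
  decide (D.IsPosRoot (topRoot D)) && decide (topRoot D ∈ Q) && decide (i₀ < D.rank) &&
  decide (s₀ < D.nroots) && decide (D.simple i₀ ∈ S₁) &&
  (decide (s₀ = topRoot D) || decide (D.cartan i₀ s₀ = -1)) &&
  ((List.range D.nroots).all fun s => decide (s ∈ S₂)) &&
  ((D.chain.getD (topRoot D) #[]).toList.all fun e => decide (e.2.size ≤ 1))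

theorem Base.of_parts {s₀ i₀ : ℕ} {Q : List ℕ} {F₁ S₁ F₂ S₂ : List ℕ} (hQ : qList D = Q)
    (hb₁ : bfsIter D 80 ([topRoot D], [topRoot D]) = (F₁, S₁))
    (hb₂ : bfsIter D 80 ([topRoot D, s₀], [topRoot D, s₀]) = (F₂, S₂))
    (h : headOK D s₀ i₀ Q S₁ S₂ = true) (hs : ∀ p, 0 ≤ p → p < D.nroots → sideOK D Q p = true)
    (hc : ∀ p, 0 ≤ p → p < D.nroots → closedOK D Q p = true) : Base D s₀ i₀ := by
  subst hQ
  simp only [headOK, Bool.and_eq_true, decide_eq_true_eq, List.all_eq_true, List.mem_range,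
    Bool.or_eq_true] at h
  obtain ⟨⟨⟨⟨⟨⟨⟨⟨⟨⟨h1, h2⟩, h3⟩, h4⟩, h5⟩, h6⟩, h7⟩, h8⟩, h9⟩, h10⟩, h11⟩ := h
  have hp : ∀ p, D.IsPosRoot p → (p = topRoot D ∨ cm D p (topRoot D) = true) ∧
      (p ∈ qList D ∨ cm D p 0 = true) ∧
      (∀ e ∈ (D.chain.getD p #[]).toList, e.1 ≠ topRoot D ∧ ∀ c ∈ e.2.toList, c.1 ≠ 0) := by
    intro p hp
    have := hs p (Nat.zero_le _) hp.1
    simp only [sideOK, Bool.and_eq_true, decide_eq_true_eq, List.all_eq_true, Bool.or_eq_true,
      Bool.not_eq_true', decide_eq_false_iff_not] at this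
    have h' := this.resolve_left fun h => h hp
    exact ⟨h'.1.1, h'.1.2, h'.2⟩
  refine ⟨h1, h2, h3, h4, h5, h6, h7, ?_, h9, ?_, h11,
    fun p hpp hne => (hp p hpp).1.resolve_left hne,
    fun p hpp hne => (hp p hpp).2.1.resolve_left hne,
    fun p hpp e he => ((hp p hpp).2.2 e he).1,
    fun p hpp e he c hc => ((hp p hpp).2.2 e he).2 c hc, ?_⟩
  · rw [bfs_eq_bfsIter, hb₁]; exact h8
  · intro s hs'
    rw [bfs_eq_bfsIter, hb₂]; exact h10 s hs'
  · intro p hpp s hsq hne
    have := hc p (Nat.zero_le _) hpp.1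
    simp only [closedOK, Bool.and_eq_true, decide_eq_true_eq, List.all_eq_true, Bool.or_eq_true,
      Bool.not_eq_true', decide_eq_false_iff_not] at this
    exact ((this.resolve_left fun h => h hpp) s hsq).resolve_left hne

/-- `pairOK` with the radical given as a list. -/
def pairOKWith (D : ChevalleyDatum) (Q : List ℕ) (g g' : ℕ) : Bool :=
  decide (g ∈ Q) && decide (g' ∈ Q) && oneTerm D g g' (topRoot D) &&
  (Q.all fun q => decide (q = g) || cm D g q || oneTerm D g q (topRoot D)) &&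
  oneTerm D 0 g (D.neg g') && oneTerm D (topRoot D) (D.neg g') g &&
  cm D g (D.neg g') && cm D 0 (D.neg g') && decide (g ≠ topRoot D) && decide (g' ≠ topRoot D)

theorem tripleOK_of_parts {Q : List ℕ} {g₁ g₁' g₂ g₂' e : ℕ} (hQ : qList D = Q)
    (h₁ : pairOKWith D Q g₁ g₁' = true) (h₂ : pairOKWith D Q g₂ g₂' = true)
    (h₃ : (decide (D.IsPosRoot e) && !decide (e ∈ Q) && decide (e ≠ topRoot D) &&
      oneTerm D e g₁ g₂ && cm D e g₂) = true) : tripleOK D g₁ g₁' g₂ g₂' e = true := by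
  subst hQ
  simp only [Bool.and_eq_true] at h₃
  simp only [tripleOK, pairOK, pairOKWith, Bool.and_eq_true] at h₁ h₂ ⊢
  obtain ⟨⟨⟨⟨a, b⟩, c⟩, d⟩, f⟩ := h₃
  exact ⟨⟨⟨⟨⟨⟨h₁, h₂⟩, a⟩, b⟩, c⟩, d⟩, f⟩

end CfsgLib.SubfieldOver
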