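import Cfsg.Agent.Lib.SubfieldOver.Chunks

/-! The radical of the highest root of E8. -/

set_option autoImplicit false

namespace CfsgLib.SubfieldOver.ChecksE8

open Cfsg.Lie

/-- The radical. -/
def qs : List ℕ :=
  [120, 122, 125, 129, 134, 140, 146, 151, 155, 158, 160, 161, 168, 173, 177, 180, 182, 183, 187,
    190, 192, 193, 196, 198, 199, 201, 202, 203, 206, 208, 209, 211, 212, 213, 215, 216, 217,
    218, 220, 221, 222, 223, 224, 225, 227, 228, 229, 230, 231, 232, 233, 234, 235, 236, 237,
    238, 239]

private theorem q0 : (List.range' 0 30).filter (fun r => decide ((chevE8).IsPosRoot r) &&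
    decide (0 < (chevE8).pairing (topRoot chevE8) r)) = ([] : List ℕ) := by decide +kernel

private theorem q1 : (List.range' 30 30).filter (fun r => decide ((chevE8).IsPosRoot r) &&
    decide (0 < (chevE8).pairing (topRoot chevE8) r)) = ([] : List ℕ) := by decide +kernel

private theorem q2 : (List.range' 60 30).filter (fun r => decide ((chevE8).IsPosRoot r) &&
    decide (0 < (chevE8).pairing (topRoot chevE8) r)) = ([] : List ℕ) := by decide +kernel

private theorem q3 : (List.range' 90 30).filter (fun r => decide ((chevE8).IsPosRoot r) &&
    decide (0 < (chevE8).pairing (topRoot chevE8) r)) = ([] : List ℕ) := by decide +kernel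

private theorem q4 : (List.range' 120 30).filter (fun r => decide ((chevE8).IsPosRoot r) &&
    decide (0 < (chevE8).pairing (topRoot chevE8) r)) = ([120, 122, 125, 129, 134, 140, 146] : List ℕ) := by decide +kernel

private theorem q5 : (List.range' 150 30).filter (fun r => decide ((chevE8).IsPosRoot r) &&
    decide (0 < (chevE8).pairing (topRoot chevE8) r)) = ([151, 155, 158, 160, 161, 168, 173, 177] : List ℕ) := by decide +kernel

private theorem q6 : (List.range' 180 30).filter (fun r => decide ((chevE8).IsPosRoot r) &&
    decide (0 < (chevE8).pairing (topRoot chevE8) r)) = ([180, 182, 183, 187, 190, 192, 193, 196, 198, 199, 201, 202, 203, 206, 208, 209] : List ℕ) := by decide +kernel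

private theorem q7 : (List.range' 210 30).filter (fun r => decide ((chevE8).IsPosRoot r) &&
    decide (0 < (chevE8).pairing (topRoot chevE8) r)) = ([211, 212, 213, 215, 216, 217, 218, 220, 221, 222, 223, 224, 225, 227, 228, 229, 230, 231, 232,
    233, 234, 235, 236, 237, 238, 239] : List ℕ) := by decide +kernel

theorem qList_eq : qList chevE8 = qs := by
  have h := filter_range'_append q0 (filter_range'_append q1 (filter_range'_append q2 (filter_range'_append q3 (filter_range'_append q4 (filter_range'_append q5 (filter_range'_append q6 (q7)))))))
  rw [qList, show (chevE8).nroots = 240 from by decide +kernel, List.range_eq_range']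
  exact h

end CfsgLib.SubfieldOver.ChecksE8
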