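import Cfsg.Agent.Lib.SubfieldOver.Pair
import Cfsg.Agent.Lib.ChevField.Fixed

/-!
The entry of an element of `H` in the row of the lowest and the column of the highest root vector,
read off from the Bruhat decomposition; and the case of two linked pairs of roots in `Q`.
-/

set_option autoImplicit false

namespace CfsgLib.SubfieldOver

open Cfsg.Lie CfsgLib.ChevStr

variable {D : ChevalleyDatum} {F : Type*} [Field F] {C : ChevCore D F}
  {H : Subgroup (GL D.Idx F)} {s₀ i₀ : ℕ} {S : Subfield F}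

/-- The lowest root as a coordinate. -/
def botIdx (hB : Base D s₀ i₀) : D.Idx := Sum.inr ⟨0, hB.pos⟩

/-- The highest root as a coordinate. -/
def topIdx (hB : Base D s₀ i₀) : D.Idx := Sum.inr ⟨topRoot D, hB.top_pos.1⟩

theorem entries_x (r : ℕ) {t : F} (ht : t ∈ S) (a b : D.Idx) : D.x F r t a b ∈ S := by
  have h := ChevField.x_map (D := D) S.subtype r ⟨t, ht⟩
  rw [show t = S.subtype ⟨t, ht⟩ from rfl, ← h, Matrix.map_apply]
  exact Subtype.prop _

theorem entries_mul {M N : Matrix D.Idx D.Idx F} (hM : ∀ a b, M a b ∈ S) (hN : ∀ a b, N a b ∈ S) :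
    ∀ a b, (M * N) a b ∈ S := fun a b => by
  rw [Matrix.mul_apply]
  exact sum_mem fun c _ => mul_mem (hM a c) (hN c b)

theorem entries_nS (i : Fin D.rank) (a b : D.Idx) :
    (C.nS i : Matrix D.Idx D.Idx F) a b ∈ S := by
  rw [C.coe_nS]
  simp only [ChevalleyDatum.nMat, ChevalleyDatum.wordMat, ChevalleyDatum.nWord, List.map_cons,
    List.map_nil, List.prod_cons, List.prod_nil, mul_one]
  exact entries_mul (fun a b => entries_x _ (one_mem _) a b)
    (entries_mul (fun a b => entries_x _ (by simpa using neg_mem (one_mem S)) a b)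
      (fun a b => entries_x _ (one_mem _) a b)) a b

/-- A representative of a Weyl group element: it permutes the root coordinates and has entries in `S`. -/
theorem exists_shaped_rep {w : Equiv.Perm (Fin D.nroots)} (hw : w ∈ C.hR.weyl) :
    ∃ n ∈ Subgroup.closure (Set.range C.nS), C.Acts n w ∧
      (∀ a b, (n : Matrix D.Idx D.Idx F) a b ∈ S) ∧
      ∀ (a : D.Idx) (s : Fin D.nroots), (n : Matrix D.Idx D.Idx F) a (Sum.inr s) ≠ 0 →
        a = Sum.inr (w s) := by
  refine C.hR.weyl_induction (P := fun w => ∃ n ∈ Subgroup.closure (Set.range C.nS), C.Acts n w ∧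
      (∀ a b, (n : Matrix D.Idx D.Idx F) a b ∈ S) ∧
      ∀ (a : D.Idx) (s : Fin D.nroots), (n : Matrix D.Idx D.Idx F) a (Sum.inr s) ≠ 0 →
        a = Sum.inr (w s)) ?_ ?_ w hw
  · refine ⟨1, one_mem _, C.acts_one, fun a b => ?_, fun a s h => ?_⟩
    · rw [Units.val_one, Matrix.one_apply]; split_ifs <;> simp
    · rw [Units.val_one, Matrix.one_apply] at h
      simpa using h
  rintro v - i ⟨n, hn, hv, hent, hshape⟩
  refine ⟨n * C.nS i, mul_mem hn (Subgroup.subset_closure ⟨i, rfl⟩),
    ChevCore.Acts.mul C hv (C.acts_nS i), ?_, fun a s h => ?_⟩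
  · rw [Units.val_mul]; exact entries_mul hent (entries_nS i)
  · rw [Units.val_mul, Matrix.mul_apply] at h
    obtain ⟨b, -, hb⟩ := Finset.exists_ne_zero_of_sum_ne_zero h
    obtain ⟨hb1, hb2⟩ := mul_ne_zero_iff.1 hb
    rw [C.coe_nS] at hb2
    rcases C.n_shape i b (Sum.inr s) hb2 with ⟨j, j', -, e⟩ | ⟨s', s'', rfl, e, rfl⟩
    · exact absurd e (by simp)
    · rw [Equiv.Perm.mul_apply, show s = s' from Sum.inr_injective e]
      exact hshape _ _ hb1

variable (hB : Base D s₀ i₀)
include hB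

theorem posUnipotent_row_bot (C : ChevCore D F) {u : GL D.Idx F} (hu : u ∈ D.posUnipotent F) (b : D.Idx) :
    (u : Matrix D.Idx D.Idx F) (botIdx hB) b = if botIdx hB = b then 1 else 0 := by
  suffices h : Matrix.vecMul (Pi.single (botIdx hB) 1) (u : Matrix D.Idx D.Idx F) =
      Pi.single (botIdx hB) 1 by
    have := congrFun h b
    simp only [Matrix.single_one_vecMul, Matrix.row_apply, Pi.single_apply] at this
    rw [this]
    simp [eq_comm]
  let T : Subgroup (GL D.Idx F) :=
    { carrier := {u | Matrix.vecMul (Pi.single (botIdx hB) 1) (u : Matrix D.Idx D.Idx F) =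
        Pi.single (botIdx hB) 1}
      one_mem' := by
        show Matrix.vecMul _ ((1 : GL D.Idx F) : Matrix D.Idx D.Idx F) = _
        rw [Units.val_one, Matrix.vecMul_one]
      mul_mem' := fun {a b} ha hb => by
        show Matrix.vecMul _ ((a * b : GL D.Idx F) : Matrix D.Idx D.Idx F) = _
        rw [Units.val_mul, ← Matrix.vecMul_vecMul, ha, hb]
      inv_mem' := fun {a} ha => by
        show Matrix.vecMul _ ((a⁻¹ : GL D.Idx F) : Matrix D.Idx D.Idx F) = _
        conv_lhs => rw [← ha]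
        rw [Matrix.vecMul_vecMul, ← Units.val_mul, mul_inv_cancel, Units.val_one, Matrix.vecMul_one] }
  refine C.posUnipotent_le (S := T) (fun r t hr => ?_) hu
  show Matrix.vecMul _ _ = _
  rw [Matrix.single_one_vecMul, C.coe_xGL]
  funext c
  rw [Matrix.row_apply, Pi.single_apply]
  have hr0 : r ≠ 0 := fun e => by
    subst e
    refine C.R.not_pos_and_neg hr ?_
    rw [← hB.neg_top]
    exact (C.R.isNeg_neg_iff hB.top_pos.1).2 hB.top_pos
  simp only [ChevalleyDatum.x, dif_pos hr.1, botIdx]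
  rcases c with i | s
  · simp [ChevalleyDatum.xMat, Fin.ext_iff, Ne.symm hr0]
  · simp only [ChevalleyDatum.xMat, Matrix.of_apply, Sum.inr.injEq]
    by_cases h1 : s = ⟨r, hr.1⟩
    · subst h1; simp [Fin.ext_iff, Ne.symm hr0, hr0]
    rw [if_neg h1]
    by_cases h2 : s.val = D.negIdx.getD r 0
    · rw [if_pos h2]
      simp only [Fin.ext_iff, Ne.symm hr0, if_false]
      exact if_congr ⟨fun h => h.symm, fun h => h.symm⟩ rfl rfl
    · rw [if_neg h2]
      have hcc : D.chainCoeff r s.val 0 = [] := by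
        rw [ChevalleyDatum.chainCoeff, List.flatMap_eq_nil_iff]
        intro e he
        rw [List.map_eq_nil_iff, List.filter_eq_nil_iff]
        intro q hq
        have hmem := (List.mem_filter.1 he).1
        have := hB.chain_bot r hr e hmem q.1 (by
          obtain ⟨h', -⟩ := List.mem_zipIdx' (x := q.1) (i := q.2) hq
          exact List.getElem_mem h' |> fun _ => List.fst_mem_of_mem_zipIdx hq)
        simpa using this
      rw [hcc]
      simp only [List.map_nil, List.sum_nil, add_zero]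
      exact if_congr ⟨fun h => h.symm, fun h => h.symm⟩ rfl rfl

theorem posUnipotent_col_top (C : ChevCore D F) {u : GL D.Idx F} (hu : u ∈ D.posUnipotent F) (b : D.Idx) :
    (u : Matrix D.Idx D.Idx F) b (topIdx hB) = if b = topIdx hB then 1 else 0 := by
  suffices h : Matrix.mulVec (u : Matrix D.Idx D.Idx F) (Pi.single (topIdx hB) 1) =
      Pi.single (topIdx hB) 1 by
    have := congrFun h b
    simp only [Matrix.mulVec_single_one, Matrix.col_apply, Pi.single_apply] at this
    exact this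
  let T : Subgroup (GL D.Idx F) :=
    { carrier := {u | Matrix.mulVec (u : Matrix D.Idx D.Idx F) (Pi.single (topIdx hB) 1) =
        Pi.single (topIdx hB) 1}
      one_mem' := by
        show Matrix.mulVec ((1 : GL D.Idx F) : Matrix D.Idx D.Idx F) _ = _
        rw [Units.val_one, Matrix.one_mulVec]
      mul_mem' := fun {a b} ha hb => by
        show Matrix.mulVec ((a * b : GL D.Idx F) : Matrix D.Idx D.Idx F) _ = _
        rw [Units.val_mul, ← Matrix.mulVec_mulVec, hb, ha]
      inv_mem' := fun {a} ha => by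
        show Matrix.mulVec ((a⁻¹ : GL D.Idx F) : Matrix D.Idx D.Idx F) _ = _
        conv_lhs => rw [← ha]
        rw [Matrix.mulVec_mulVec, ← Units.val_mul, inv_mul_cancel, Units.val_one, Matrix.one_mulVec] }
  refine C.posUnipotent_le (S := T) (fun r t hr => ?_) hu
  show Matrix.mulVec _ _ = _
  rw [Matrix.mulVec_single_one, C.coe_xGL]
  funext c
  rw [Matrix.col_apply, Pi.single_apply]
  have htn : topRoot D ≠ D.negIdx.getD r 0 := fun e => by
    refine C.R.not_pos_and_neg hB.top_pos ?_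
    rw [e]; exact (C.R.isNeg_neg_iff hr.1).2 hr
  simp only [ChevalleyDatum.x, dif_pos hr.1, topIdx]
  simp only [ChevalleyDatum.xMat, Matrix.of_apply]
  by_cases h1 : (⟨topRoot D, hB.top_pos.1⟩ : Fin D.nroots) = ⟨r, hr.1⟩
  · rw [if_pos h1]
    rcases c with i | s
    · simp
    · simp [h1]
  rw [if_neg h1, if_neg htn]
  rcases c with i | s
  · simp
  · have hcc : D.chainCoeff r (topRoot D) s.val = [] := by
      rw [ChevalleyDatum.chainCoeff, List.flatMap_eq_nil_iff]
      intro e he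
      have h := List.mem_filter.1 he
      exact absurd (by simpa using h.2) (hB.chain_top r hr e h.1)
    simp only [hcc, topIdx]
    simp

/-- The entry is in `S` when all the parameters of conjugates of lowest root elements are. -/
theorem entry_mem (hO : Over C H S.toAddSubgroup)
    (hd : ∀ u ∈ qGroup C, ∀ d, u * C.xGL 0 d * u⁻¹ ∈ H → d ∈ S) {g : GL D.Idx F} (hg : g ∈ H) :
    (g : Matrix D.Idx D.Idx F) (botIdx hB) (topIdx hB) ∈ S := by
  obtain ⟨n, hn, hcell⟩ := C.exists_bigCell (hO.le hg)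
  obtain ⟨b, hb, y, hy, rfl⟩ := C.mem_bigCell.1 hcell
  obtain ⟨w, hw, -⟩ := C.exists_moves hn
  obtain ⟨n₀, hn₀, hacts, hent, hshape⟩ := exists_shaped_rep (C := C) (S := S) hw.1
  have hn₀m := C.rep_mem_monomial hn₀
  have hdiag : n₀⁻¹ * n ∈ D.diagonalSubgroup F :=
    C.mem_diagonal_of_moves_one (mul_mem (inv_mem hn₀m) hn)
      (by simpa using ChevCore.Moves.mul C (ChevCore.Moves.inv C hn₀m (ChevCore.Acts.moves C hacts)) hw)
  have hy' : n₀⁻¹ * n * y ∈ D.borelSubgroup F := mul_mem (Subgroup.mem_sup_right hdiag) hy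
  rw [show b * n * y = b * n₀ * (n₀⁻¹ * n * y) by group] at hg ⊢
  generalize n₀⁻¹ * n * y = y' at hy' hg ⊢
  obtain ⟨ub, hub, cb, rfl⟩ := C.mem_borel.1 hb
  obtain ⟨uy, huy, cy, rfl⟩ := C.mem_borel.1 hy'
  set χb : F := ((C.R.torusChar cb (C.R.α (topRoot D)) : Fˣ) : F)
  set χy : F := ((C.R.torusChar cy (C.R.α (topRoot D)) : Fˣ) : F)
  have hαbot : C.R.α 0 = - C.R.α (topRoot D) := by
    rw [← hB.neg_top]; exact C.R.α_neg _ hB.top_pos.1
  have hchar : ∀ c : Fin D.rank → Fˣ,
      ((C.R.torusChar c (C.R.α 0) : Fˣ) : F) = ((C.R.torusChar c (C.R.α (topRoot D)) : Fˣ) : F)⁻¹ := by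
    intro c
    rw [hαbot, ← neg_one_zsmul, C.R.torusChar_zsmul, zpow_neg_one, Units.val_inv_eq_inv_val]
  have hentry : ((ub * C.R.torus cb * n₀ * (uy * C.R.torus cy) : GL D.Idx F) :
      Matrix D.Idx D.Idx F) (botIdx hB) (topIdx hB) =
      χb⁻¹ * (n₀ : Matrix D.Idx D.Idx F) (botIdx hB) (topIdx hB) * χy := by
    have hrow : ∀ a, ((ub * C.R.torus cb : GL D.Idx F) : Matrix D.Idx D.Idx F) (botIdx hB) a =
        if botIdx hB = a then χb⁻¹ else 0 := by
      intro a
      rw [Units.val_mul, C.R.coe_torus, Matrix.mul_diagonal, posUnipotent_row_bot hB C hub]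
      split_ifs with h
      · subst h; simp [botIdx, hchar, χb]
      · simp
    have hcol : ∀ a, ((uy * C.R.torus cy : GL D.Idx F) : Matrix D.Idx D.Idx F) a (topIdx hB) =
        if a = topIdx hB then χy else 0 := by
      intro a
      rw [Units.val_mul, C.R.coe_torus, Matrix.mul_diagonal, posUnipotent_col_top hB C huy]
      split_ifs with h
      · subst h; simp [topIdx, χy]
      · simp
    rw [Units.val_mul, Units.val_mul, Matrix.mul_apply]
    simp only [hcol, mul_ite, mul_zero, Finset.sum_ite_eq', Finset.mem_univ, if_true,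
      Matrix.mul_apply, hrow, ite_mul, zero_mul, Finset.sum_ite_eq]
  rw [hentry]
  by_cases h0 : (n₀ : Matrix D.Idx D.Idx F) (botIdx hB) (topIdx hB) = 0
  · rw [h0]; simp
  have hwt : w ⟨topRoot D, hB.top_pos.1⟩ = ⟨0, hB.pos⟩ :=
    (Sum.inr_injective (hshape _ _ h0)).symm
  -- the conjugate of the highest root element
  obtain ⟨-, e, he⟩ := hacts
  obtain ⟨he1, -, he3⟩ := he ⟨topRoot D, hB.top_pos.1⟩
  obtain ⟨v, hv, hvc⟩ := exists_q_conj C hB hub
  have hconj : ∀ t, C.R.torus cb * C.xGL 0 t * (C.R.torus cb)⁻¹ = C.xGL 0 (χb⁻¹ * t) := fun t => by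
    rw [C.acts_torus cb ⟨0, hB.pos⟩ t, hchar cb]
  have hmem : v * C.xGL 0 (χb⁻¹ * ((e (topRoot D) : F) * χy)) * v⁻¹ ∈ H := by
    rw [← hvc, ← hconj, show C.xGL 0 ((e (topRoot D) : F) * χy) =
      n₀ * C.xGL (topRoot D) χy * n₀⁻¹ by rw [he3 χy, hwt]]
    have h2 : (uy * C.R.torus cy) * C.xGL (topRoot D) 1 * (uy * C.R.torus cy)⁻¹ =
        C.xGL (topRoot D) χy := by rw [borel_conj_top C hB huy cy rfl, mul_one]
    rw [← h2]
    have := mul_mem (mul_mem hg (hO.mem (topRoot D) 1 hO.one)) (inv_mem hg)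
    simpa [mul_assoc] using this
  have hS := hd v hv _ hmem
  have hν := hent (botIdx hB) (topIdx hB)
  rcases he1 with h | h
  · rw [show e (topRoot D) = 1 from h, Int.cast_one, one_mul] at hS
    rw [mul_right_comm]
    exact mul_mem hS hν
  · rw [show e (topRoot D) = -1 from h, Int.cast_neg, Int.cast_one, neg_one_mul, mul_neg] at hS
    rw [mul_right_comm]
    exact mul_mem (by simpa using neg_mem hS) hν

/-- Two linked pairs leave no exceptional parameters. -/
theorem d_mem_of_triple [Infinite F] (hη : C.EtaNeg) (p : ℕ) [Fact p.Prime] [CharP F p]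
    {A : AddSubgroup F} (hO : Over C H A) {g₁ g₁' g₂ g₂' e : ℕ}
    (h : tripleOK D g₁ g₁' g₂ g₂' e = true) {u : GL D.Idx F} (hu : u ∈ qGroup C) {d : F}
    (hy : u * C.xGL 0 d * u⁻¹ ∈ H) : d ∈ A := by
  simp only [tripleOK, Bool.and_eq_true, decide_eq_true_eq, Bool.not_eq_true',
    decide_eq_false_iff_not] at h
  obtain ⟨⟨⟨⟨⟨⟨h1, h2⟩, hepos⟩, heq⟩, -⟩, hone⟩, hc2⟩ := h
  have hm : ∀ g g', pairOK D g g' = true → g ∈ qList D := fun g g' hg => by
    simp only [pairOK, Bool.and_eq_true, decide_eq_true_eq] at hg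
    exact hg.1.1.1.1.1.1.1.1.1
  have hg1 := (mem_qList (hm _ _ h1)).1
  have hg2 := (mem_qList (hm _ _ h2)).1
  by_contra hd
  obtain ⟨η₁, hη₁⟩ := exists_eta hB h1 hu
  obtain ⟨η₂, hη₂⟩ := exists_eta hB h2 hu
  obtain ⟨n1, p1, -, pA, -⟩ := (pair_cases hB hη hO p h1 hu hy hη₁).resolve_left hd
  obtain ⟨n2, p2, -⟩ := (pair_cases hB hη hO p h2 hu hy hη₂).resolve_left hd
  have : Finite A := finite_A hO hB.top_pos.1
  have hA1 : 2 ≤ Nat.card A := by
    have : Nontrivial A := ⟨⟨0, ⟨1, hO.one⟩, fun h => zero_ne_one (congrArg Subtype.val h)⟩⟩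
    exact Finite.one_lt_card
  obtain ⟨hinv, -⟩ := pow_natCard_eq A hO.one hO.mul
  -- `η₁` is a combination of `1` and `η₂` over `A`
  obtain ⟨a, ha, b, hb, hab⟩ : ∃ a ∈ A, ∃ b ∈ A, a + b * η₂ = η₁ := by
    classical
    by_contra hne
    push Not at hne
    obtain ⟨m, hm⟩ := CharP.exists' F |>.resolve_left (fun h0 => by
      have := h0.1; have := CharP.ofCharZero F
      exact (Fact.out : p.Prime).ne_zero (CharP.eq F ‹CharP F p› ‹CharP F 0›))
    let _ : Fintype A := Fintype.ofFinite A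
    let P : Polynomial F := Polynomial.X ^ (Nat.card A ^ 2) - Polynomial.X
    have hP : P ≠ 0 := FiniteField.X_pow_card_sub_X_ne_zero F
      (Nat.one_lt_pow (by norm_num) (by omega))
    let img : Finset F := (Finset.univ : Finset (A × A)).image fun x => (x.1 : F) + x.2 * η₂
    have hinj : Function.Injective fun x : A × A => (x.1 : F) + x.2 * η₂ := by
      intro x y hxy
      have h2' : (x.2 : F) = y.2 := by
        by_contra hne'
        refine n2 ?_
        have := hO.mul _ (hinv _ (sub_mem x.2.2 y.2.2)) _ (sub_mem y.1.2 x.1.2)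
        rwa [show ((x.2 : F) - y.2)⁻¹ * (y.1 - x.1) = η₂ by
          rw [inv_mul_eq_iff_eq_mul₀ (sub_ne_zero.2 hne')]; linear_combination -hxy] at this
      refine Prod.ext (Subtype.ext ?_) (Subtype.ext h2')
      have hxy' : (x.1 : F) + x.2 * η₂ = y.1 + y.2 * η₂ := hxy
      rw [h2'] at hxy'
      exact add_right_cancel hxy'
    have hsub : (insert η₁ img).val ⊆ P.roots := by
      intro z hz
      rw [Polynomial.mem_roots hP]
      rw [Finset.mem_val, Finset.mem_insert, Finset.mem_image] at hz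
      rcases hz with rfl | ⟨x, -, rfl⟩
      · rw [Nat.card_eq_fintype_card] at p1; simp [P, p1]
      · have hq : ∀ q : ℕ, Nat.card A = q → ∃ n, q = p ^ n := fun q hq => by
          have : IsPGroup p (Multiplicative A) := fun x => ⟨1, by
            apply Multiplicative.toAdd.injective
            rw [toAdd_pow, toAdd_one, pow_one]
            exact Subtype.ext (by
              show p • ((Multiplicative.toAdd x : A) : F) = 0
              rw [nsmul_eq_mul, CharP.cast_eq_zero, zero_mul])⟩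
          obtain ⟨n, hn⟩ := this.exists_card_eq
          exact ⟨n, by rw [← hq, ← hn]; exact (Nat.card_congr Multiplicative.toAdd).symm⟩
        obtain ⟨n, hn⟩ := hq _ rfl
        have : ExpChar F p := ExpChar.prime Fact.out
        simp only [P, Polynomial.IsRoot.def, Polynomial.eval_sub, Polynomial.eval_pow, Polynomial.eval_X]
        rw [sub_eq_zero]
        have hp2 : Nat.card A ^ 2 = p ^ (n * 2) := by rw [hn, pow_mul]
        rw [hp2] at p2 pA ⊢
        rw [add_pow_expChar_pow, mul_pow, p2, pA _ x.1.2, pA _ x.2.2]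
    have hle := Polynomial.card_le_degree_of_subset_roots hsub
    have hnot : η₁ ∉ img := fun hmem => by
      obtain ⟨x, -, hx⟩ := Finset.mem_image.1 hmem
      exact hne _ x.1.2 _ x.2.2 hx
    rw [Finset.card_insert_of_notMem hnot, Finset.card_image_of_injective _ hinj, Finset.card_univ,
      Fintype.card_prod, ← Nat.card_eq_fintype_card,
      FiniteField.X_pow_card_sub_X_natDegree_eq F (Nat.one_lt_pow (by norm_num) (by omega)), sq] at hle
    omega
  obtain ⟨N, hN, hNc⟩ := oneTerm_eq C hepos.1 hg1 hone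
  set t : F := -(N * b) with ht
  have htA : t ∈ A := by
    rcases hN with rfl | rfl <;> simpa [ht] using hb
  have hl := hO.mem e t htA
  set l := C.xGL e t with hldef
  have hu' : l * u * l⁻¹ ∈ qGroup C := pos_conj_qGroup C hB hepos t hu
  have hy' : l * u * l⁻¹ * C.xGL 0 d * (l * u * l⁻¹)⁻¹ ∈ H := by
    have hc : Commute l (C.xGL 0 d) := commute_of_cm C hepos.1 hB.pos (hB.cm_bot e hepos heq) t d
    rw [show l * u * l⁻¹ * C.xGL 0 d * (l * u * l⁻¹)⁻¹ =
      l * u * (l⁻¹ * C.xGL 0 d * l) * u⁻¹ * l⁻¹ by group, mul_assoc l⁻¹, ← hc.eq, inv_mul_cancel_left]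
    have := mul_mem (mul_mem hl hy) (inv_mem hl)
    simpa [mul_assoc] using this
  have hη' : ∀ s : F, (l * u * l⁻¹)⁻¹ * C.xGL g₁ s * (l * u * l⁻¹) =
      C.xGL g₁ s * C.xGL (topRoot D) (s * (η₁ + N * t * η₂)) := by
    intro s
    have hA' : l⁻¹ * C.xGL g₁ s * l = C.xGL g₁ s * C.xGL g₂ (N * (t * s)) := by
      rw [mul_assoc, inv_mul_eq_iff_eq_mul, hldef, hNc t s, mul_assoc]
    have hc' : Commute l (C.xGL g₂ (N * (t * s))) :=
      commute_of_cm C hepos.1 hg2 hc2 t _
    have hctop : ∀ v, Commute l (C.xGL (topRoot D) v) := fun v =>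
      commute_top C hB (C.xGL_mem_posUnipotent hepos t) v
    have hcg2 : ∀ v w, Commute (C.xGL g₂ v) (C.xGL (topRoot D) w) := fun v w =>
      commute_top C hB (C.xGL_mem_posUnipotent (mem_qList (hm _ _ h2)) v) w
    calc (l * u * l⁻¹)⁻¹ * C.xGL g₁ s * (l * u * l⁻¹)
        = l * (u⁻¹ * (l⁻¹ * C.xGL g₁ s * l) * u) * l⁻¹ := by group
      _ = l * ((u⁻¹ * C.xGL g₁ s * u) * (u⁻¹ * C.xGL g₂ (N * (t * s)) * u)) * l⁻¹ := by
          rw [hA']; group
      _ = l * C.xGL g₁ s * C.xGL g₂ (N * (t * s)) *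
          (C.xGL (topRoot D) (s * η₁ + N * (t * s) * η₂)) * l⁻¹ := by
          rw [hη₁ s, hη₂, C.xGL_add]
          have := (hcg2 (N * (t * s)) (s * η₁)).eq
          simp only [mul_assoc]
          rw [← mul_assoc (C.xGL (topRoot D) (s * η₁)) (C.xGL g₂ _), ← this]
          simp only [mul_assoc]
      _ = l * (C.xGL g₁ s * C.xGL g₂ (N * (t * s))) * l⁻¹ *
          C.xGL (topRoot D) (s * η₁ + N * (t * s) * η₂) := by
          rw [mul_assoc _ _ l⁻¹, ← ((hctop _).inv_left).eq]; simp only [mul_assoc]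
      _ = C.xGL g₁ s * C.xGL (topRoot D) (s * η₁ + N * (t * s) * η₂) := by
          rw [← hA']; group
      _ = _ := by ring_nf
  obtain ⟨n3, -⟩ := (pair_cases hB hη hO p h1 hu' hy' hη').resolve_left hd
  refine n3 ?_
  rw [show η₁ + N * t * η₂ = a by
    rw [← hab, ht]
    rcases hN with rfl | rfl <;> ring]
  exact ha

end CfsgLib.SubfieldOver
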