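import Cfsg.Agent.Lib.SubfieldOver.Entry
import Cfsg.Agent.Lib.ChevStr.Simple

/-!
From the single entry to all entries: if `(l g l')[bot, top]` is `σ`-fixed for all `l, l'` in the
`σ`-fixed part of `H`, then `g` is `σ`-fixed.
-/

set_option autoImplicit false

namespace CfsgLib.SubfieldOver

open Cfsg.Lie CfsgLib.ChevStr Matrix

variable {D : ChevalleyDatum} {F : Type*} [Field F] {C : ChevCore D F}
  {H : Subgroup (GL D.Idx F)} {s₀ i₀ : ℕ} {S : Subfield F}

variable (hB : Base D s₀ i₀)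
include hB

theorem top_ne_bot (C : ChevCore D F) : topRoot D ≠ 0 := fun e =>
  C.R.neg_ne _ hB.top_pos.1 (by rw [hB.neg_top, e])

/-- Root elements of the highest root, split by degree. -/
theorem x_top_decomp (C : ChevCore D F) (t : F) :
    D.x F (topRoot D) t = 1 + t • (D.x F (topRoot D) 1 - 1 + Matrix.single (topIdx hB) (botIdx hB) (1 : F))
      - (t ^ 2) • Matrix.single (topIdx hB) (botIdx hB) (1 : F) := by
  have hneg : D.negIdx.getD (topRoot D) 0 = 0 := hB.neg_top
  have hcc : ∀ s u (km : ℕ × ℤ), km ∈ D.chainCoeff (topRoot D) s u → km.1 = 1 := by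
    intro s u km hkm
    simp only [ChevalleyDatum.chainCoeff, List.mem_flatMap, List.mem_filter, List.mem_map] at hkm
    obtain ⟨e, ⟨he, -⟩, q, ⟨hq, -⟩, rfl⟩ := hkm
    have h1 := hB.top_chain e he
    have h2 : q.2 < e.2.toList.length := by
      have := List.mem_zipIdx (x := q.1) (i := q.2) hq
      omega
    rw [Array.length_toList] at h2
    show q.2 + 1 = 1
    omega
  ext a b
  simp only [ChevalleyDatum.x, dif_pos hB.top_pos.1, Matrix.sub_apply, Matrix.add_apply,
    Matrix.smul_apply, smul_eq_mul, topIdx, botIdx, ChevalleyDatum.xMat, Matrix.of_apply]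
  rcases b with i | s
  · rcases a with j | u
    · simp [Matrix.one_apply]
    · by_cases hu : u = ⟨topRoot D, hB.top_pos.1⟩ <;> simp [hu, Matrix.one_apply, Matrix.single]
      ring
  · by_cases h1 : s = ⟨topRoot D, hB.top_pos.1⟩
    · subst h1
      have htb : topRoot D ≠ 0 := fun e => top_ne_bot hB C e
      rcases a with j | u <;> simp [Matrix.one_apply, Matrix.single, Fin.ext_iff, Ne.symm htb]
    dsimp only
    rw [if_neg h1, if_neg h1]
    by_cases h2 : s.val = D.negIdx.getD (topRoot D) 0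
    · have hs0 : s = ⟨0, hB.pos⟩ := Fin.ext (by rw [h2, hneg])
      subst hs0
      rw [if_pos h2, if_pos h2]
      rcases a with j | u
      · simp [Matrix.one_apply, Matrix.single]
        ring
      · by_cases hu : u = ⟨0, hB.pos⟩
        · subst hu
          simp [Matrix.one_apply, Matrix.single, Fin.ext_iff, top_ne_bot hB C]
        · by_cases hu' : u = ⟨topRoot D, hB.top_pos.1⟩
          · subst hu'
            simp [Matrix.one_apply, Matrix.single, hu]
          · simp [Matrix.one_apply, Matrix.single, hu, hu', Ne.symm hu']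
    · rw [if_neg h2, if_neg h2]
      have hs0 : s ≠ ⟨0, hB.pos⟩ := fun e => h2 (by rw [hneg, e])
      rcases a with j | u
      · simp [Matrix.one_apply, Matrix.single]
      · have key : ((D.chainCoeff (topRoot D) s.val u.val).map fun km => ((km.2 : ℤ) : F) * t ^ km.1).sum =
            t * ((D.chainCoeff (topRoot D) s.val u.val).map fun km => ((km.2 : ℤ) : F) * (1 : F) ^ km.1).sum := by
          rw [← List.sum_map_mul_left]
          congr 1
          refine List.map_congr_left fun km hkm => ?_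
          rw [hcc _ _ km hkm, pow_one, pow_one]
          ring
        dsimp only
        rw [key]
        simp [Matrix.one_apply, Matrix.single, Ne.symm hs0, Sum.inr.injEq]

/-- The stabiliser of a subspace of column vectors. -/
def colStab (V : Submodule F (D.Idx → F)) : Subgroup (GL D.Idx F) where
  carrier := {g | ∀ v ∈ V, (g : Matrix D.Idx D.Idx F) *ᵥ v ∈ V ∧
    ((g⁻¹ : GL D.Idx F) : Matrix D.Idx D.Idx F) *ᵥ v ∈ V}
  one_mem' := fun v hv => by simp [hv]
  mul_mem' := fun {a b} ha hb v hv => by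
    refine ⟨?_, ?_⟩
    · rw [Units.val_mul, ← mulVec_mulVec]; exact (ha _ (hb v hv).1).1
    · rw [_root_.mul_inv_rev, Units.val_mul, ← mulVec_mulVec]; exact (hb _ (ha v hv).2).2
  inv_mem' := fun {a} ha v hv => ⟨(ha v hv).2, by rw [inv_inv]; exact (ha v hv).1⟩

/-- The stabiliser of a subspace of row vectors. -/
def rowStab (W : Submodule F (D.Idx → F)) : Subgroup (GL D.Idx F) where
  carrier := {g | ∀ v ∈ W, v ᵥ* (g : Matrix D.Idx D.Idx F) ∈ W ∧
    v ᵥ* ((g⁻¹ : GL D.Idx F) : Matrix D.Idx D.Idx F) ∈ W}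
  one_mem' := fun v hv => by simp [hv]
  mul_mem' := fun {a b} ha hb v hv => by
    refine ⟨?_, ?_⟩
    · rw [Units.val_mul, ← vecMul_vecMul]; exact (hb _ (ha v hv).1).1
    · rw [_root_.mul_inv_rev, Units.val_mul, ← vecMul_vecMul]; exact (ha _ (hb v hv).2).2
  inv_mem' := fun {a} ha v hv => ⟨(ha v hv).2, by rw [inv_inv]; exact (ha v hv).1⟩

/-- The `σ`-fixed part of `H` sees every element of `H`: the entries are `σ`-fixed. -/
theorem fixed_of_entries (hsimple : IsSimpleGroup ↥(D.group F)) (hO : Over C H S.toAddSubgroup)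
    (σ : F →+* F) (hσ : ∀ t, σ t = t ↔ t ∈ S)
    (hentry : ∀ g ∈ H, (g : Matrix D.Idx D.Idx F) (botIdx hB) (topIdx hB) ∈ S)
    {g : GL D.Idx F} (hg : g ∈ H) : ChevField.mapGL σ g = g := by
  classical
  set e₀ : D.Idx → F := Pi.single (botIdx hB) 1
  set e₁ : D.Idx → F := Pi.single (topIdx hB) 1
  set E := Matrix.single (topIdx hB) (botIdx hB) (1 : F)
  let Λ : Subgroup (GL D.Idx F) :=
    H ⊓ MonoidHom.eqLocus (ChevField.mapGL σ) (MonoidHom.id _)
  let V : Submodule F (D.Idx → F) :=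
    Submodule.span F ((fun l : GL D.Idx F => (l : Matrix D.Idx D.Idx F) *ᵥ e₁) '' Λ)
  let W : Submodule F (D.Idx → F) :=
    Submodule.span F ((fun l : GL D.Idx F => e₀ ᵥ* (l : Matrix D.Idx D.Idx F)) '' Λ)
  have hΛV : ∀ l ∈ Λ, ∀ v ∈ V, (l : Matrix D.Idx D.Idx F) *ᵥ v ∈ V := by
    intro l hl v hv
    induction hv using Submodule.span_induction with
    | mem x hx =>
      obtain ⟨l', hl', rfl⟩ := hx
      refine Submodule.subset_span ⟨l * l', mul_mem hl hl', ?_⟩
      simp [mulVec_mulVec]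
    | zero => simp
    | add x y _ _ hx hy => rw [mulVec_add]; exact add_mem hx hy
    | smul a x _ hx => rw [mulVec_smul]; exact V.smul_mem a hx
  have hΛW : ∀ l ∈ Λ, ∀ v ∈ W, v ᵥ* (l : Matrix D.Idx D.Idx F) ∈ W := by
    intro l hl v hv
    induction hv using Submodule.span_induction with
    | mem x hx =>
      obtain ⟨l', hl', rfl⟩ := hx
      refine Submodule.subset_span ⟨l' * l, mul_mem hl' hl, ?_⟩
      simp [vecMul_vecMul]
    | zero => simp
    | add x y _ _ hx hy => rw [add_vecMul]; exact add_mem hx hy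
    | smul a x _ hx => rw [smul_vecMul]; exact W.smul_mem a hx
  have hxΛ : ∀ r, ∀ t ∈ S, C.xGL r t ∈ Λ := fun r t ht => by
    refine Subgroup.mem_inf.2 ⟨hO.mem r t ht, Units.ext ?_⟩
    show (C.xGL r t : Matrix D.Idx D.Idx F).map σ = _
    rw [C.coe_xGL, ChevField.x_map, (hσ t).2 ht]
    exact (C.coe_xGL r t).symm
  have hVt : ∀ t, ∀ v ∈ V, D.x F (topRoot D) t *ᵥ v ∈ V := by
    intro t v hv
    have hE : E *ᵥ v ∈ V := by
      rw [show E *ᵥ v = v (botIdx hB) • e₁ by
        funext a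
        show ∑ c, E a c * v c = _
        rw [Finset.sum_eq_single (botIdx hB) (fun c _ hc => by simp [E, Matrix.single, Ne.symm hc])
          (by simp)]
        simp [E, e₁, Matrix.single, Pi.single_apply, eq_comm]]
      exact V.smul_mem _ (Submodule.subset_span ⟨1, one_mem _, by simp⟩)
    have h1 : D.x F (topRoot D) 1 *ᵥ v ∈ V := by
      rw [← C.coe_xGL]; exact hΛV _ (hxΛ _ 1 (one_mem S)) v hv
    rw [x_top_decomp hB C t, sub_mulVec, add_mulVec, smul_mulVec, smul_mulVec, add_mulVec,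
      sub_mulVec, one_mulVec]
    exact sub_mem (add_mem hv (V.smul_mem _ (add_mem (sub_mem h1 hv) hE))) (V.smul_mem _ hE)
  have hWt : ∀ t, ∀ v ∈ W, v ᵥ* D.x F (topRoot D) t ∈ W := by
    intro t v hv
    have hE : v ᵥ* E ∈ W := by
      rw [show v ᵥ* E = v (topIdx hB) • e₀ by
        funext a
        show ∑ c, v c * E c a = _
        rw [Finset.sum_eq_single (topIdx hB) (fun c _ hc => by simp [E, Matrix.single, Ne.symm hc])
          (by simp)]
        simp [E, e₀, Matrix.single, Pi.single_apply, eq_comm]]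
      exact W.smul_mem _ (Submodule.subset_span ⟨1, one_mem _, by simp⟩)
    have h1 : v ᵥ* D.x F (topRoot D) 1 ∈ W := by
      rw [← C.coe_xGL]; exact hΛW _ (hxΛ _ 1 (one_mem S)) v hv
    rw [x_top_decomp hB C t, vecMul_sub, vecMul_add, vecMul_smul, vecMul_smul, vecMul_add,
      vecMul_sub, vecMul_one]
    exact sub_mem (add_mem hv (W.smul_mem _ (add_mem (sub_mem h1 hv) hE))) (W.smul_mem _ hE)
  have hstab : D.group F ≤ colStab V ⊓ rowStab W := by
    refine C.group_le fun r t hr => ?_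
    refine gen_all C hB _ (fun r hr => ?_) Set.univ (fun _ _ => trivial) (fun t _ => ?_) r hr t trivial
    · have h := hxΛ r 1 (one_mem S)
      exact Subgroup.mem_inf.2 ⟨fun v hv => ⟨hΛV _ h v hv, hΛV _ (inv_mem h) v hv⟩,
        fun v hv => ⟨hΛW _ h v hv, hΛW _ (inv_mem h) v hv⟩⟩
    · refine Subgroup.mem_inf.2 ⟨fun v hv => ⟨?_, ?_⟩, fun v hv => ⟨?_, ?_⟩⟩ <;>
        simp only [C.xGL_inv, C.coe_xGL]
      · exact hVt t v hv
      · exact hVt (-t) v hv
      · exact hWt t v hv
      · exact hWt (-t) v hv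
  let K : Subgroup ↥(D.group F) :=
    { carrier := {h | ∀ w ∈ W, ∀ v ∈ V, w ⬝ᵥ (((h : GL D.Idx F) : Matrix D.Idx D.Idx F) *ᵥ v) = w ⬝ᵥ v}
      one_mem' := fun w _ v _ => by simp
      mul_mem' := fun {a b} ha hb w hw v hv => by
        rw [Subgroup.coe_mul, Units.val_mul, ← mulVec_mulVec,
          ha w hw _ ((Subgroup.mem_inf.1 (hstab b.2)).1 v hv).1, hb w hw v hv]
      inv_mem' := fun {a} ha w hw v hv => by
        rw [Subgroup.coe_inv, ← ha w hw _ ((Subgroup.mem_inf.1 (hstab a.2)).1 v hv).2, mulVec_mulVec, ← Units.val_mul,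
          mul_inv_cancel, Units.val_one, one_mulVec] }
  have hKn : K.Normal := ⟨fun h hh x w hw v hv => by
    rw [Subgroup.coe_mul, Subgroup.coe_mul, Units.val_mul, Units.val_mul, ← mulVec_mulVec,
      ← mulVec_mulVec, Subgroup.coe_inv, dotProduct_mulVec]
    rw [hh _ ((Subgroup.mem_inf.1 (hstab x.2)).2 w hw).1 _ ((Subgroup.mem_inf.1 (hstab x.2)).1 v hv).2,
      ← dotProduct_mulVec, mulVec_mulVec, ← Units.val_mul, mul_inv_cancel, Units.val_one, one_mulVec]⟩
  have hKbot : K = ⊥ := by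
    rcases hsimple.eq_bot_or_eq_top_of_normal K hKn with h | h
    · exact h
    exfalso
    have h1 : (⟨C.xGL 0 1, C.xGL_mem_group 0 1⟩ : D.group F) ∈ K := h ▸ Subgroup.mem_top _
    have := h1 e₀ (Submodule.subset_span ⟨1, one_mem _, by simp⟩) e₁
      (Submodule.subset_span ⟨1, one_mem _, by simp⟩)
    have hne : (⟨topRoot D, hB.top_pos.1⟩ : Fin D.nroots) ≠ ⟨0, hB.pos⟩ := fun e =>
      top_ne_bot hB C (congrArg Fin.val e)
    have hneg : D.negIdx.getD 0 0 = topRoot D := hB.neg_bot
    simp [e₀, e₁, botIdx, topIdx, ChevalleyDatum.x, hB.pos, ChevalleyDatum.xMat,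
      hne, hneg, Ne.symm hne] at this
  have hσg : ChevField.mapGL σ g ∈ D.group F :=
    ChevField.group_map_le σ ⟨g, hO.le hg, rfl⟩
  have hpair : ∀ w ∈ W, ∀ v ∈ V, w ⬝ᵥ ((ChevField.mapGL σ g : GL D.Idx F).val *ᵥ v) =
      w ⬝ᵥ ((g : Matrix D.Idx D.Idx F) *ᵥ v) := by
    intro w hw v hv
    induction hw using Submodule.span_induction with
    | mem x hx =>
      obtain ⟨l, hl, rfl⟩ := hx
      induction hv using Submodule.span_induction with
      | mem y hy =>
        obtain ⟨l', hl', rfl⟩ := hy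
        have hfix := fun z (hz : z ∈ Λ) => (Subgroup.mem_inf.1 hz).2
        have hmem : l * g * l' ∈ H :=
          mul_mem (mul_mem (Subgroup.mem_inf.1 hl).1 hg) (Subgroup.mem_inf.1 hl').1
        have hS := (hσ _).2 (hentry _ hmem)
        have e : ∀ X : GL D.Idx F, (e₀ ᵥ* (l : Matrix D.Idx D.Idx F)) ⬝ᵥ
            ((X : Matrix D.Idx D.Idx F) *ᵥ ((l' : Matrix D.Idx D.Idx F) *ᵥ e₁)) =
            ((l * X * l' : GL D.Idx F) : Matrix D.Idx D.Idx F) (botIdx hB) (topIdx hB) := by
          intro X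
          rw [mulVec_mulVec, ← dotProduct_mulVec, mulVec_mulVec, ← Units.val_mul, ← Units.val_mul,
            ← mul_assoc]
          simp [e₀, e₁]
        simp only [e]
        rw [← hS]
        have hl1 : ChevField.mapGL σ l = l := hfix l hl
        have hl2 : ChevField.mapGL σ l' = l' := hfix l' hl'
        conv_lhs => rw [← hl1, ← hl2, ← map_mul, ← map_mul]
        rfl
      | zero => simp
      | add y z _ _ hy hz => simp only [mulVec_add, dotProduct_add, hy, hz]
      | smul a y _ hy => simp only [mulVec_smul, dotProduct_smul, hy]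
    | zero => simp
    | add y z _ _ hy hz => simp only [add_dotProduct, hy, hz]
    | smul a y _ hy => simp only [smul_dotProduct, hy]
  have hk0 : (⟨g⁻¹ * ChevField.mapGL σ g, mul_mem (inv_mem (hO.le hg)) hσg⟩ : D.group F) ∈ K := by
    intro w hw v hv
    show w ⬝ᵥ ((g⁻¹ * ChevField.mapGL σ g : GL D.Idx F).val *ᵥ v) = _
    rw [Units.val_mul, ← mulVec_mulVec, dotProduct_mulVec,
      hpair _ ((Subgroup.mem_inf.1 (hstab (hO.le hg))).2 w hw).2 v hv, ← dotProduct_mulVec,
      mulVec_mulVec, ← Units.val_mul, inv_mul_cancel, Units.val_one, one_mulVec]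
  rw [hKbot, Subgroup.mem_bot] at hk0
  exact (inv_mul_eq_one.1 (congrArg Subtype.val hk0)).symm

end CfsgLib.SubfieldOver
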