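import Cfsg.Agent.Lib.SubfieldOver.Pair

/-!
The types `B₂` and `G₂` over the fields with two and three elements: a conjugate `u x_bot(d) u⁻¹`
in a finite group over the prime field has its parameter in the prime field.
-/

set_option autoImplicit false

namespace CfsgLib.SubfieldOver

open Cfsg.Lie CfsgLib.ChevStr Matrix
open CfsgLib.ChevStr.ChevCore (slX slY)

section general

variable {D : ChevalleyDatum} {F : Type*} [Field F] {C : ChevCore D F}
  {H : Subgroup (GL D.Idx F)} {A : AddSubgroup F} {s₀ i₀ : ℕ}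

/-- `diag(c, c⁻¹)`. -/
def diagEl (c : Fˣ) : SpecialLinearGroup (Fin 2) F :=
  ⟨!![(c : F), 0; 0, (c : F)⁻¹], by simp [Matrix.det_fin_two]⟩

theorem diagEl_neg_one : diagEl (-1 : Fˣ) = -1 := by
  refine sl_ext fun i j => ?_
  rw [sl_neg]
  fin_cases i <;> fin_cases j <;> simp [diagEl, inv_neg]

/-- Terms of the commutator of two roots of `Q` lie in the highest root. -/
def qCentral (D : ChevalleyDatum) : Bool :=
  (qList D).all fun q => (qList D).all fun s =>
    decide (q = s) || (decide (q ≠ D.neg s) &&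
      (D.commTerms s q).all fun c => decide (c.1 = topRoot D))

variable (hB : Base D s₀ i₀)
include hB

/-- The torus of the highest root acts through the Cartan integers of a simple root. -/
theorem diag_conj {φ : SpecialLinearGroup (Fin 2) F →* GL D.Idx F}
    (hφ : ∀ t : F, φ (slX t) = C.xGL (topRoot D) t ∧ φ (slY t) = C.xGL 0 t)
    {w : Equiv.Perm (Fin D.nroots)} (hw : w ∈ C.hR.weyl) (k : Fin D.rank)
    (hk : (w ⟨D.simple k.val, C.R.simple_lt k⟩).val = topRoot D) (c : Fˣ) (s : Fin D.nroots) (t : F) :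
    φ (diagEl c) * C.xGL (w s) t * (φ (diagEl c))⁻¹ =
      C.xGL (w s) (((c ^ D.cartan k.val s : Fˣ) : F) * t) := by
  obtain ⟨n, -, -, e, he⟩ := C.exists_rep hw
  set p : Fin D.nroots := ⟨D.simple k.val, C.R.simple_lt k⟩ with hp
  obtain ⟨he1, he2, he3⟩ := he p
  obtain ⟨-, -, he3'⟩ := he ⟨D.neg p, C.R.neg_lt _ p.isLt⟩
  have hwn : (w ⟨D.neg p, C.R.neg_lt _ p.isLt⟩).val = 0 := by
    rw [C.hR.apply_neg hw p, hk, hB.neg_top]
  set E : F := ((e p : ℤ) : F) with hE
  have hEE : E * E = 1 := by rcases he1 with h | h <;> simp [hE, h]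
  have hE0 : E ≠ 0 := left_ne_zero_of_mul_eq_one hEE
  have hEi : E⁻¹ = E := inv_eq_of_mul_eq_one_right hEE
  have hEa : ∀ a : F, E * (E * a) = a := fun a => by rw [← mul_assoc, hEE, one_mul]
  have hW : ∀ a : F, φ (slX a * slY (-a⁻¹) * slX a) = n * C.nGL p (E * a) * n⁻¹ := by
    intro a
    rw [map_mul, map_mul, (hφ _).1, (hφ _).2]
    simp only [ChevCore.nGL, ChevCore.wordGL, ChevalleyDatum.nWord, List.map_cons, List.map_nil,
      List.prod_cons, List.prod_nil, mul_one]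
    rw [show n * (C.xGL p (E * a) * (C.xGL (D.neg p) (-(E * a)⁻¹) * C.xGL p (E * a))) * n⁻¹ =
      (n * C.xGL p (E * a) * n⁻¹) * (n * C.xGL (D.neg p) (-(E * a)⁻¹) * n⁻¹) *
        (n * C.xGL p (E * a) * n⁻¹) by group, he3, hk, hEa]
    have h := he3' (-(E * a)⁻¹)
    simp only [he2, hwn] at h
    rw [h, _root_.mul_inv_rev, hEi, show E * -(a⁻¹ * E) = -(E * E * a⁻¹) by ring, hEE, one_mul]
  have hd : diagEl c = (slX (E * c) * slY (-(E * (c : F))⁻¹) * slX (E * c)) *
      (slX (-E) * slY (-(-E)⁻¹) * slX (-E)) := by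
    refine sl_ext fun i j => ?_
    simp only [sl_mul]
    have hc : (c : F) ≠ 0 := c.ne_zero
    fin_cases i <;> fin_cases j <;>
      simp [diagEl, slX, slY, Matrix.mul_apply, Fin.sum_univ_two, Matrix.vecMul, dotProduct] <;>
      field_simp <;> ring
  have hDn : φ (diagEl c) = n * C.R.torusSingle k c * n⁻¹ := by
    rw [hd, map_mul, hW, hW, ← mul_assoc E E (c : F), hEE, one_mul, mul_neg, hEE, ← C.hGL_simple k c,
      C.hGL_eq]
    group
    rfl
  obtain ⟨hs1, -, hs3⟩ := he s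
  set S : F := ((e s : ℤ) : F) with hS
  have hSS : S * S = 1 := by rcases hs1 with h | h <;> simp [hS, h]
  have h1 : C.xGL (w s) t = n * C.xGL s (S * t) * n⁻¹ := by
    rw [hs3, ← mul_assoc, hSS, one_mul]
  rw [hDn, h1, show n * C.R.torusSingle k c * n⁻¹ * (n * C.xGL s (S * t) * n⁻¹) *
      (n * C.R.torusSingle k c * n⁻¹)⁻¹ =
      n * (C.R.torusSingle k c * C.xGL s (S * t) * (C.R.torusSingle k c)⁻¹) * n⁻¹ by group]
  rw [RootData.torusSingle, C.acts_torus, C.R.torusChar_single _ _ s.isLt, hs3,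
    mul_left_comm, ← mul_assoc S, hSS, one_mul]

/-- Conjugation by `Q` moves root elements of `Q` along the highest root group only. -/
theorem exists_top_shift (h : qCentral D = true) {q : ℕ} (hq : q ∈ qList D) (t : F)
    {u : GL D.Idx F} (hu : u ∈ qGroup C) :
    ∃ m : F, u⁻¹ * C.xGL q t * u = C.xGL q t * C.xGL (topRoot D) m := by
  simp only [qCentral, List.all_eq_true, Bool.or_eq_true, Bool.and_eq_true, decide_eq_true_eq] at h
  refine Subgroup.closure_induction
    (p := fun u _ => ∃ m : F, u⁻¹ * C.xGL q t * u = C.xGL q t * C.xGL (topRoot D) m) ?_ ?_ ?_ ?_ hu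
  · rintro _ ⟨s, hs, v, rfl⟩
    rcases h q hq s hs with e | ⟨hne, hterms⟩
    · subst e
      exact ⟨0, by rw [C.xGL_zero, mul_one, mul_assoc, ← C.xGL_add, add_comm t, C.xGL_add,
        inv_mul_cancel_left]⟩
    rcases eq_or_ne q s with e | hqs
    · subst e
      exact ⟨0, by rw [C.xGL_zero, mul_one, mul_assoc, ← C.xGL_add, add_comm t, C.xGL_add,
        inv_mul_cancel_left]⟩
    have h3 := C.xGL_comm (mem_qList hs).1 (mem_qList hq).1 hqs hne v t
    have hw : C.wordGL (D.commWord F s q v t) ∈ D.rootSubgroup F (topRoot D) := by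
      refine Subgroup.list_prod_mem _ fun x hx => ?_
      simp only [List.mem_map, ChevalleyDatum.commWord] at hx
      obtain ⟨p, ⟨c, hc, rfl⟩, rfl⟩ := hx
      exact C.mem_rootSubgroup.2 ⟨_, by rw [hterms c hc]⟩
    obtain ⟨m, hm⟩ := C.mem_rootSubgroup.1 hw
    exact ⟨m, by rw [mul_assoc, h3, ← hm, mul_assoc, inv_mul_cancel_left]⟩
  · exact ⟨0, by simp [C.xGL_zero]⟩
  · rintro a b ha hb ⟨m, hm⟩ ⟨m', hm'⟩
    refine ⟨m' + m, ?_⟩
    have hc := commute_top C hB (qGroup_le C hb) m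
    calc (a * b)⁻¹ * C.xGL q t * (a * b) = b⁻¹ * (a⁻¹ * C.xGL q t * a) * b := by group
      _ = b⁻¹ * C.xGL q t * b * C.xGL (topRoot D) m := by
        rw [hm, mul_assoc b⁻¹, mul_assoc (C.xGL q t), ← hc.eq]; group
      _ = _ := by rw [hm', mul_assoc, ← C.xGL_add]
  · rintro a ha ⟨m, hm⟩
    refine ⟨-m, ?_⟩
    have hc := commute_top C hB (qGroup_le C ha) m
    calc a⁻¹⁻¹ * C.xGL q t * a⁻¹
        = a * (C.xGL q t * C.xGL (topRoot D) m) * (C.xGL (topRoot D) m)⁻¹ * a⁻¹ := by group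
      _ = a * (a⁻¹ * C.xGL q t * a) * (C.xGL (topRoot D) m)⁻¹ * a⁻¹ := by rw [hm]
      _ = C.xGL q t * (a * (C.xGL (topRoot D) m)⁻¹) * a⁻¹ := by group
      _ = _ := by rw [hc.inv_right.eq, mul_assoc, mul_inv_cancel_right, C.xGL_inv]

/-- In odd characteristic `-1` of the highest root lies in the conjugate. -/
theorem neg_one_mem_conjH [Infinite F] (p : ℕ) [Fact p.Prime] [CharP F p] (hp : p ≠ 2)
    (hO : Over C H A) {φ : SpecialLinearGroup (Fin 2) F →* GL D.Idx F}
    (hφ : ∀ t : F, φ (slX t) = C.xGL (topRoot D) t ∧ φ (slY t) = C.xGL 0 t)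
    {u : GL D.Idx F} (hu : u ∈ qGroup C) {d : F} (hd : d ≠ 0) (hy : u * C.xGL 0 d * u⁻¹ ∈ H) :
    φ (diagEl (-1)) ∈ conjH H u := by
  set G := (conjH H u).comap φ with hG
  have hker : (φ.ker : Set (SpecialLinearGroup (Fin 2) F)).Finite := by
    refine finite_of_normal φ.ker (fun t ht => ?_) (fun t ht => ?_)
    · rw [MonoidHom.mem_ker, (hφ t).1, C.xGL_eq_one_iff hB.top_pos.1] at ht; exact ht
    · rw [MonoidHom.mem_ker, (hφ t).2, C.xGL_eq_one_iff hB.pos] at ht; exact ht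
  have : Finite (conjH H u) := finite_conjH hO u
  have : Finite G := by
    have : Finite φ.ker := hker.to_subtype
    let f : G →* conjH H u := φ.subgroupComap (conjH H u)
    have : Finite f.ker := Finite.of_injective (fun x : f.ker => (⟨x.1.1, by
      have := congrArg Subtype.val (MonoidHom.mem_ker.1 x.2); exact this⟩ : φ.ker))
      fun x y h => Subtype.ext (Subtype.ext (congrArg (fun z : φ.ker => z.1) h))
    have : Finite (G ⧸ f.ker) :=
      Finite.of_injective (QuotientGroup.kerLift f) (QuotientGroup.kerLift_injective f)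
    exact Finite.of_subgroup_quotient f.ker
  have hx : slX 1 ∈ G := by
    rw [hG, Subgroup.mem_comap, (hφ 1).1, top_mem_conjH hB hO hu]; exact hO.one
  have hy' : slY d ∈ G := by rw [hG, Subgroup.mem_comap, (hφ d).2, mem_conjH]; exact hy
  rw [diagEl_neg_one]
  exact neg_one_mem_of_unitriangular p hp G one_ne_zero hd hx hy'

omit hB in
/-- A small set of parameters is the prime field. -/
theorem small_eq (p : ℕ) [Fact p.Prime] [CharP F p] [Finite A] (h1 : (1 : F) ∈ A)
    (hmul : ∀ a ∈ A, ∀ b ∈ A, a * b ∈ A) (hcard : Nat.card A < 4) :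
    Nat.card A = p ∧ (p = 2 ∨ p = 3) ∧ ∀ t ∈ A, t ^ p = t := by
  have hord : addOrderOf (⟨1, h1⟩ : A) = p := by
    rw [← AddSubgroup.addOrderOf_coe]
    exact (CharP.eq F (CharP.addOrderOf_one F) inferInstance)
  have hdvd : p ∣ Nat.card A := hord ▸ addOrderOf_dvd_natCard (⟨1, h1⟩ : A)
  have hpos : 0 < Nat.card A := Nat.card_pos
  have hp2 := (Fact.out : p.Prime).two_le
  have hle := Nat.le_of_dvd hpos hdvd
  obtain ⟨c, hc⟩ := hdvd
  have hc1 : c = 1 := by
    rcases c with _ | _ | c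
    · omega
    · rfl
    · have : p * 2 ≤ p * (c + 1 + 1) := Nat.mul_le_mul_left p (by omega)
      omega
  subst hc1
  rw [mul_one] at hc
  refine ⟨hc, by omega, fun t ht => ?_⟩
  have := (pow_natCard_eq A h1 hmul).2 t ht
  rwa [hc] at this

end general

section B2

variable {F : Type*} [Field F] {C : ChevCore chevB2 F}
  {H : Subgroup (GL chevB2.Idx F)} {A : AddSubgroup F}

private theorem comm_eq {D : ChevalleyDatum} {F : Type*} [Field F] (C : ChevCore D F) (a b : ℕ)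
    (ha : a < D.nroots) (hb : b < D.nroots) (h1 : b ≠ a) (h2 : b ≠ D.neg a)
    {L : List (ℕ × ℤ × ℕ × ℕ)} (hL : D.commTerms a b = L) (t u : F) :
    C.xGL b u * C.xGL a t = C.xGL a t * C.xGL b u *
      (L.map fun c => C.xGL c.1 ((c.2.1 : F) * (-t) ^ c.2.2.1 * u ^ c.2.2.2)).prod := by
  rw [C.xGL_comm ha hb h1 h2 t u]
  simp [ChevalleyDatum.commWord, hL, ChevCore.wordGL, List.map_map, Function.comp_def]

/-- Root elements commuting by the table. -/
private theorem cm_eq {D : ChevalleyDatum} {F : Type*} [Field F] (C : ChevCore D F) (a b : ℕ)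
    (h : (decide (a < D.nroots) && decide (b < D.nroots) && cm D a b) = true) (t u : F) :
    C.xGL a t * C.xGL b u = C.xGL b u * C.xGL a t := by
  simp only [Bool.and_eq_true, decide_eq_true_eq] at h
  exact (commute_of_cm C h.1.1 h.1.2 h.2 t u).eq

private theorem nS_conj_char_two {D : ChevalleyDatum} {F : Type*} [Field F] [CharP F 2]
    (C : ChevCore D F) (i : Fin D.rank) (s s' : ℕ) (hs : s < D.nroots)
    (h : D.reflectRoot i.val s = s') (t : F) :
    C.nS i * C.xGL s t * (C.nS i)⁻¹ = C.xGL s' t := by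
  obtain ⟨-, e, he⟩ := C.acts_nS i
  obtain ⟨he1, -, he3⟩ := he ⟨s, hs⟩
  rw [he3 t, C.hR.sPerm_val, h]
  rcases he1 with h1 | h1 <;> simp [show e s = _ from h1, CharTwo.neg_eq]

private theorem nS_mem {D : ChevalleyDatum} {F : Type*} [Field F] (C : ChevCore D F)
    {S : Subgroup (GL D.Idx F)} (i : Fin D.rank) (h1 : ∀ r, C.xGL r 1 ∈ S) : C.nS i ∈ S := by
  refine Subgroup.list_prod_mem _ fun x hx => ?_
  simp only [ChevalleyDatum.nWord, List.map_cons, List.map_nil, List.mem_cons, List.not_mem_nil,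
    or_false] at hx
  rcases hx with rfl | rfl | rfl
  · exact h1 _
  · rw [inv_one, ← C.xGL_inv]; exact inv_mem (h1 _)
  · exact h1 _

/-- `B₂` in characteristic three. -/
theorem d_mem_B2_three [Infinite F] [CharP F 3] (hB : Base chevB2 1 1) (hη : C.EtaNeg)
    (hO : Over C H A) {u : GL chevB2.Idx F} (hu : u ∈ qGroup C) {d : F}
    (hy : u * C.xGL 0 d * u⁻¹ ∈ H) : d ∈ A := by
  rcases eq_or_ne d 0 with rfl | hd0
  · exact A.zero_mem
  have : Fact (Nat.Prime 3) := ⟨by norm_num⟩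
  have h3 : (3 : F) = 0 := by exact_mod_cast CharP.cast_eq_zero F 3
  have htwo : ∀ t : F, t + t ∈ A → t ∈ A := fun t ht => by
    have := A.neg_mem ht
    rwa [show -(t + t) = t by linear_combination (-t) * h3] at this
  obtain ⟨φ, -, hφ'⟩ := C.exists_slHom hη (show 7 < chevB2.nroots by decide +kernel)
  have hφ : ∀ t : F, φ (slX t) = C.xGL (topRoot chevB2) t ∧ φ (slY t) = C.xGL 0 t := fun t => by
    rw [(hφ' t).1, (hφ' t).2, show chevB2.neg 7 = 0 by decide +kernel]
    exact ⟨rfl, rfl⟩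
  set ι := φ (diagEl (-1)) with hι
  have hιm : ι ∈ conjH H u := neg_one_mem_conjH hB 3 (by norm_num) hO hφ hu hd0 hy
  let w := C.hR.sPerm ⟨0, by decide +kernel⟩
  have hw : ∀ (s r : ℕ) (hs : s < chevB2.nroots), chevB2.reflectRoot 0 s = r →
      (w ⟨s, hs⟩).val = r := fun s r hs h => by
    rw [show (w ⟨s, hs⟩).val = _ from C.hR.sPerm_val _ _]; exact h
  have hact : ∀ (s r : ℕ) (hs : s < chevB2.nroots), chevB2.reflectRoot 0 s = r → ∀ t,
      ι * C.xGL r t * ι⁻¹ = C.xGL r ((-1 : F) ^ chevB2.cartan 1 s * t) := by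
    intro s r hs h t
    have := diag_conj hB hφ (C.hR.sPerm_mem _) ⟨1, by decide +kernel⟩
      (hw _ _ _ (by decide +kernel)) (-1) ⟨s, hs⟩ t
    rw [hw s r hs h] at this
    rw [this]
    congr 2
    simp
  have hι6 : ∀ t, ι * C.xGL 6 t * ι⁻¹ = C.xGL 6 (-t) := fun t => by
    rw [hact 6 6 (by decide +kernel) (by decide +kernel) t,
      show chevB2.cartan 1 6 = 1 by decide +kernel]
    simp
  have hι5 : ∀ t, ι * C.xGL 5 t * ι⁻¹ = C.xGL 5 (-t) := fun t => by
    rw [hact 2 5 (by decide +kernel) (by decide +kernel) t,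
      show chevB2.cartan 1 2 = 1 by decide +kernel]
    simp
  have hι2 : ∀ t, ι * C.xGL 2 t * ι⁻¹ = C.xGL 2 (-t) := fun t => by
    rw [hact 5 2 (by decide +kernel) (by decide +kernel) t,
      show chevB2.cartan 1 5 = -1 by decide +kernel]
    simp
  have hι4 : ∀ t, ι * C.xGL 4 t * ι⁻¹ = C.xGL 4 t := fun t => by
    rw [hact 7 4 (by decide +kernel) (by decide +kernel) t,
      show chevB2.cartan 1 7 = 0 by decide +kernel]
    simp
  have hι7 : ∀ t, ι * C.xGL 7 t * ι⁻¹ = C.xGL 7 t := fun t => by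
    rw [hact 4 7 (by decide +kernel) (by decide +kernel) t,
      show chevB2.cartan 1 4 = 2 by decide +kernel]
    simp
  have htop : ∀ t, C.xGL 7 t ∈ conjH H u → t ∈ A := fun t ht => (top_mem_conjH hB hO hu).1 ht
  have hq : ∀ q ∈ qList chevB2, (∀ t, ι * C.xGL q t * ι⁻¹ = C.xGL q (-t)) →
      C.xGL q 1 ∈ conjH H u := by
    intro q hq hneg
    obtain ⟨m, hm⟩ := exists_top_shift hB (by decide +kernel) hq 1 hu
    have hs : C.xGL q 1 * C.xGL 7 m ∈ conjH H u := by
      show C.xGL q 1 * C.xGL (topRoot chevB2) m ∈ conjH H u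
      rw [mem_conjH, ← hm, show u * (u⁻¹ * C.xGL q 1 * u) * u⁻¹ = C.xGL q 1 by group]
      exact hO.mem q 1 hO.one
    have hc : ∀ v, Commute (C.xGL q (-1)) (C.xGL 7 v) := fun v =>
      commute_top C hB (C.xGL_mem_posUnipotent (mem_qList hq) _) v
    have h2 : C.xGL 7 (m + m) ∈ conjH H u := by
      have h := mul_mem hs (mul_mem (mul_mem hιm hs) (inv_mem hιm))
      rwa [show ι * (C.xGL q 1 * C.xGL 7 m) * ι⁻¹ =
          (ι * C.xGL q 1 * ι⁻¹) * (ι * C.xGL 7 m * ι⁻¹) by group, hneg, hι7, (hc m).eq, mul_assoc,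
        ← mul_assoc (C.xGL 7 m), ← C.xGL_add, ← (hc _).eq, ← mul_assoc, ← C.xGL_add, add_neg_cancel,
        C.xGL_zero, one_mul] at h
    have hm' := (top_mem_conjH hB hO hu).2 (htwo m (htop _ h2))
    have := mul_mem hs (inv_mem hm')
    rwa [show topRoot chevB2 = 7 by decide +kernel, mul_inv_cancel_right] at this
  have h6 := hq 6 (by decide +kernel) hι6
  have h5 := hq 5 (by decide +kernel) hι5
  have h0 : C.xGL 0 d ∈ conjH H u := mem_conjH.2 hy
  have e1 := comm_eq C 0 6 (by decide +kernel) (by decide +kernel) (by decide) (by decide +kernel)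
    (L := [(2, -1, 1, 1), (4, 1, 1, 2)]) (by decide +kernel) d 1
  simp only [List.map_cons, List.map_nil, List.prod_cons, List.prod_nil, mul_one, Int.cast_neg,
    Int.cast_one, neg_mul, one_mul, pow_one, one_pow, neg_neg] at e1
  have k1 : C.xGL 2 d * C.xGL 4 (-d) ∈ conjH H u := by
    have h := mul_mem (inv_mem (mul_mem h0 h6)) (mul_mem h6 h0)
    rwa [e1, inv_mul_cancel_left] at h
  have k4 : C.xGL 4 (-d) ∈ conjH H u := by
    have h := mul_mem k1 (inv_mem (mul_mem (mul_mem hιm k1) (inv_mem hιm)))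
    rw [show ι * (C.xGL 2 d * C.xGL 4 (-d)) * ι⁻¹ =
      (ι * C.xGL 2 d * ι⁻¹) * (ι * C.xGL 4 (-d) * ι⁻¹) by group, hι2, hι4] at h
    simp only [_root_.mul_inv_rev, mul_assoc, mul_inv_cancel_left] at h
    rw [C.xGL_inv, neg_neg, ← C.xGL_add, show d + d = -d by linear_combination d * h3] at h
    have := mul_mem h k1
    rwa [← mul_assoc, ← C.xGL_add, neg_add_cancel, C.xGL_zero, one_mul] at this
  have e2 := comm_eq C 4 5 (by decide +kernel) (by decide +kernel) (by decide) (by decide +kernel)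
    (L := [(6, 1, 1, 1), (7, -1, 1, 2)]) (by decide +kernel) (-d) 1
  simp only [List.map_cons, List.map_nil, List.prod_cons, List.prod_nil, mul_one, Int.cast_neg,
    Int.cast_one, neg_mul, one_mul, pow_one, one_pow, neg_neg] at e2
  have k2 : C.xGL 6 d * C.xGL 7 (-d) ∈ conjH H u := by
    have h := mul_mem (inv_mem (mul_mem k4 h5)) (mul_mem h5 k4)
    rwa [e2, inv_mul_cancel_left] at h
  have k3 : C.xGL 7 (-d + -d) ∈ conjH H u := by
    have h := mul_mem k2 (mul_mem (mul_mem hιm k2) (inv_mem hιm))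
    have hc := cm_eq C 7 6 (by decide +kernel) (-d) (-d)
    rwa [show ι * (C.xGL 6 d * C.xGL 7 (-d)) * ι⁻¹ =
        (ι * C.xGL 6 d * ι⁻¹) * (ι * C.xGL 7 (-d) * ι⁻¹) by group, hι6, hι7,
      mul_assoc, ← mul_assoc (C.xGL 7 (-d)), hc, mul_assoc, ← C.xGL_add, ← mul_assoc,
      ← C.xGL_add, add_neg_cancel, C.xGL_zero, one_mul] at h
  simpa using A.neg_mem (htwo _ (htop _ k3))

/-- `B₂` in characteristic two. -/
theorem d_mem_B2_two [CharP F 2] (hB : Base chevB2 1 1) (hη : C.EtaNeg) (hO : Over C H A)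
    (hA : ∀ t ∈ A, t ^ 2 = t) {u : GL chevB2.Idx F} (hu : u ∈ qGroup C) {d : F}
    (hy : u * C.xGL 0 d * u⁻¹ ∈ H) : d ∈ A := by
  have hA01 : ∀ t ∈ A, t = 0 ∨ t = 1 := fun t ht =>
    (mul_eq_zero.1 (show t * (t - 1) = 0 by linear_combination hA t ht)).imp_right sub_eq_zero.1
  have hneg : ∀ t : F, -t = t := CharTwo.neg_eq
  have h56 : ∀ t v, Commute (C.xGL 5 t) (C.xGL 6 v) := fun t v => by
    have h := comm_eq C 5 6 (by decide +kernel) (by decide +kernel) (by decide) (by decide +kernel)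
      (L := [(7, 2, 1, 1)]) (by decide +kernel) t v
    simp only [List.map_cons, List.map_nil, List.prod_cons, List.prod_nil, mul_one, Int.cast_ofNat,
      CharTwo.two_eq_zero, zero_mul, C.xGL_zero] at h
    exact h.symm
  have hQ : ∀ q ∈ qList chevB2, ∀ t, Commute u (C.xGL q t) := by
    intro q hq t
    have hle : qGroup C ≤ Subgroup.centralizer {C.xGL q t} := by
      refine C.Ucl_le fun s hs v => Subgroup.mem_centralizer_singleton_iff.mpr ?_
      rw [show qList chevB2 = [5, 6, 7] by decide +kernel] at hq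
      change s ∈ qList chevB2 at hs
      rw [show qList chevB2 = [5, 6, 7] by decide +kernel] at hs
      fin_cases hq <;> fin_cases hs
      · rw [← C.xGL_add, ← C.xGL_add, add_comm]
      · exact (h56 t v).symm.eq
      · exact cm_eq C 7 5 (by decide +kernel) v t
      · exact (h56 v t).eq
      · rw [← C.xGL_add, ← C.xGL_add, add_comm]
      · exact cm_eq C 7 6 (by decide +kernel) v t
      · exact cm_eq C 5 7 (by decide +kernel) v t
      · exact cm_eq C 6 7 (by decide +kernel) v t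
      · rw [← C.xGL_add, ← C.xGL_add, add_comm]
    exact Subgroup.mem_centralizer_singleton_iff.mp (hle hu)
  have hq1 : ∀ q ∈ qList chevB2, C.xGL q 1 ∈ conjH H u := fun q hq => by
    rw [mem_conjH, (hQ q hq 1).eq, mul_inv_cancel_right]; exact hO.mem q 1 hO.one
  have h5 := hq1 5 (by decide +kernel)
  have h6 := hq1 6 (by decide +kernel)
  have h7 := hq1 7 (by decide +kernel)
  have h0 : C.xGL 0 d ∈ conjH H u := mem_conjH.2 hy
  have e1 := comm_eq C 0 6 (by decide +kernel) (by decide +kernel) (by decide) (by decide +kernel)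
    (L := [(2, -1, 1, 1), (4, 1, 1, 2)]) (by decide +kernel) d 1
  simp only [List.map_cons, List.map_nil, List.prod_cons, List.prod_nil, mul_one, Int.cast_neg,
    Int.cast_one, neg_mul, one_mul, pow_one, one_pow, hneg] at e1
  have k1 : C.xGL 2 d * C.xGL 4 d ∈ conjH H u := by
    have h := mul_mem (inv_mem (mul_mem h0 h6)) (mul_mem h6 h0)
    rwa [e1, inv_mul_cancel_left] at h
  have e2 := comm_eq C 2 7 (by decide +kernel) (by decide +kernel) (by decide) (by decide +kernel)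
    (L := [(6, 1, 1, 1), (4, -1, 2, 1)]) (by decide +kernel) d 1
  simp only [List.map_cons, List.map_nil, List.prod_cons, List.prod_nil, mul_one, Int.cast_neg,
    Int.cast_one, neg_mul, one_mul, pow_one, hneg] at e2
  have k2 : C.xGL 6 d * C.xGL 4 (d ^ 2) ∈ conjH H u := by
    have h64 := cm_eq C 6 4 (by decide +kernel) d d
    have h47 := cm_eq C 4 7 (by decide +kernel) d 1
    have h44 : C.xGL 4 (d ^ 2) * C.xGL 4 d = C.xGL 4 d * C.xGL 4 (d ^ 2) := by
      rw [← C.xGL_add, ← C.xGL_add, add_comm]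
    have hg : C.xGL 7 1 * (C.xGL 2 d * C.xGL 4 d) =
        C.xGL 2 d * C.xGL 4 d * C.xGL 7 1 * (C.xGL 6 d * C.xGL 4 (d ^ 2)) := by
      calc C.xGL 7 1 * (C.xGL 2 d * C.xGL 4 d)
          = C.xGL 2 d * C.xGL 7 1 * (C.xGL 6 d * C.xGL 4 (d ^ 2)) * C.xGL 4 d := by
            rw [← mul_assoc, e2]
        _ = C.xGL 2 d * C.xGL 7 1 * (C.xGL 6 d * (C.xGL 4 (d ^ 2) * C.xGL 4 d)) := by group
        _ = C.xGL 2 d * C.xGL 7 1 * ((C.xGL 6 d * C.xGL 4 d) * C.xGL 4 (d ^ 2)) := by
            rw [h44]; group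
        _ = C.xGL 2 d * (C.xGL 7 1 * C.xGL 4 d) * (C.xGL 6 d * C.xGL 4 (d ^ 2)) := by
            rw [h64]; group
        _ = _ := by rw [← h47]; group
    have h := mul_mem (inv_mem (mul_mem k1 h7)) (mul_mem h7 k1)
    rwa [hg, inv_mul_cancel_left] at h
  set β := d ^ 2 with hβ
  have e3 := fun t v : F => comm_eq C 4 5 (by decide +kernel) (by decide +kernel) (by decide)
    (by decide +kernel) (L := [(6, 1, 1, 1), (7, -1, 1, 2)]) (by decide +kernel) t v
  simp only [List.map_cons, List.map_nil, List.prod_cons, List.prod_nil, mul_one, Int.cast_neg,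
    Int.cast_one, neg_mul, one_mul, pow_one, hneg] at e3
  have kE : C.xGL 6 β * C.xGL 7 β ∈ H := by
    have h65 : Commute (C.xGL 6 d) (C.xGL 5 1) := (h56 1 d).symm
    have hg : C.xGL 5 1 * (C.xGL 6 d * C.xGL 4 β) =
        C.xGL 6 d * C.xGL 4 β * C.xGL 5 1 * (C.xGL 6 β * C.xGL 7 β) := by
      rw [← mul_assoc, ← h65.eq, mul_assoc (C.xGL 6 d) (C.xGL 5 1), e3, one_pow, mul_one]
      group
    have h := mul_mem (inv_mem (mul_mem k2 h5)) (mul_mem h5 k2)
    rw [hg, inv_mul_cancel_left] at h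
    rw [mem_conjH, ← mul_assoc u, (hQ 6 (by decide +kernel) β).eq, mul_assoc, mul_assoc,
      ← mul_assoc u, (hQ 7 (by decide +kernel) β).eq, mul_assoc, mul_inv_cancel, mul_one] at h
    exact h
  have h1 : ∀ r, C.xGL r 1 ∈ H := fun r => hO.mem r 1 hO.one
  have hN : ∀ i, C.nS i ∈ H := fun i => nS_mem C i h1
  have hc : ∀ (i : Fin chevB2.rank) (r s r' s' : ℕ), r < chevB2.nroots → s < chevB2.nroots →
      chevB2.reflectRoot i.val r = r' → chevB2.reflectRoot i.val s = s' → ∀ a b,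
      C.xGL r a * C.xGL s b ∈ H → C.xGL r' a * C.xGL s' b ∈ H := by
    intro i r s r' s' hr hs hr' hs' a b h
    have := mul_mem (mul_mem (hN i) h) (inv_mem (hN i))
    rwa [show C.nS i * (C.xGL r a * C.xGL s b) * (C.nS i)⁻¹ =
      (C.nS i * C.xGL r a * (C.nS i)⁻¹) * (C.nS i * C.xGL s b * (C.nS i)⁻¹) by group,
      nS_conj_char_two C i r r' hr hr', nS_conj_char_two C i s s' hs hs'] at this
  have k2' : C.xGL 5 β * C.xGL 7 β ∈ H :=
    hc ⟨1, by decide +kernel⟩ 6 7 5 7 (by decide +kernel) (by decide +kernel) (by decide +kernel)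
      (by decide +kernel) _ _ kE
  have k4 : C.xGL 6 β * C.xGL 4 β ∈ H :=
    hc ⟨0, by decide +kernel⟩ 6 7 6 4 (by decide +kernel) (by decide +kernel) (by decide +kernel)
      (by decide +kernel) _ _ kE
  have k3 : C.xGL 6 β * C.xGL 7 (β ^ 2) ∈ H := by
    have h47 := cm_eq C 4 7 (by decide +kernel) 1 β
    have h67 := cm_eq C 7 6 (by decide +kernel) β β
    have h77 : C.xGL 7 (β ^ 2) * C.xGL 7 β = C.xGL 7 β * C.xGL 7 (β ^ 2) := by
      rw [← C.xGL_add, ← C.xGL_add, add_comm]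
    have hg : C.xGL 5 β * C.xGL 7 β * C.xGL 4 1 =
        C.xGL 4 1 * (C.xGL 5 β * C.xGL 7 β) * (C.xGL 6 β * C.xGL 7 (β ^ 2)) := by
      calc C.xGL 5 β * C.xGL 7 β * C.xGL 4 1
          = C.xGL 5 β * C.xGL 4 1 * C.xGL 7 β := by rw [mul_assoc, ← h47, ← mul_assoc]
        _ = C.xGL 4 1 * C.xGL 5 β * (C.xGL 6 β * (C.xGL 7 (β ^ 2) * C.xGL 7 β)) := by
            rw [e3, one_mul, one_mul]; group
        _ = C.xGL 4 1 * C.xGL 5 β * ((C.xGL 6 β * C.xGL 7 β) * C.xGL 7 (β ^ 2)) := by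
            rw [h77]; group
        _ = _ := by rw [← h67]; group
    have h := mul_mem (inv_mem (mul_mem (h1 4) k2')) (mul_mem k2' (h1 4))
    rwa [hg, inv_mul_cancel_left] at h
  have hβA : β + β ^ 2 ∈ A := by
    refine hO.top_mem _ ?_
    have h := mul_mem kE k3
    have hh := cm_eq C 7 6 (by decide +kernel) β β
    rwa [mul_assoc, ← mul_assoc (C.xGL 7 β), hh, mul_assoc, ← C.xGL_add, ← mul_assoc, ← C.xGL_add,
      CharTwo.add_self_eq_zero, C.xGL_zero, one_mul] at h
  have hdone : β ∈ A → d ∈ A := fun h => by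
    rcases hA01 β h with hb | hb
    · rw [sq_eq_zero_iff.1 hb]; exact A.zero_mem
    · rw [show d = 1 from frobenius_inj F 2 (show d ^ 2 = 1 ^ 2 by rw [one_pow]; exact hb)]
      exact hO.one
  rcases hA01 _ hβA with hb | hb
  · refine hdone ?_
    rcases mul_eq_zero.1 (show β * (1 + β) = 0 by linear_combination hb) with h | h
    · rw [h]; exact A.zero_mem
    · rw [show β = 1 by rw [← CharTwo.add_eq_zero, add_comm]; exact h]; exact hO.one
  exfalso
  have k5 : C.xGL 4 β * C.xGL 7 β ∈ H := by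
    have h := mul_mem k4 kE
    have hh := cm_eq C 4 6 (by decide +kernel) β β
    rwa [mul_assoc, ← mul_assoc (C.xGL 4 β), hh, mul_assoc, ← mul_assoc, ← C.xGL_add,
      CharTwo.add_self_eq_zero, C.xGL_zero, one_mul] at h
  have k6 : C.xGL 3 β * C.xGL 7 β ∈ H :=
    hc ⟨1, by decide +kernel⟩ 4 7 3 7 (by decide +kernel) (by decide +kernel) (by decide +kernel)
      (by decide +kernel) _ _ k5
  have k7 : C.xGL 4 β * C.xGL 3 β ∈ H := by
    have h := mul_mem k5 k6
    have hh := cm_eq C 7 3 (by decide +kernel) β β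
    rwa [mul_assoc, ← mul_assoc (C.xGL 7 β), hh, mul_assoc, ← C.xGL_add, CharTwo.add_self_eq_zero,
      C.xGL_zero, mul_one] at h
  obtain ⟨φ, -, hφ⟩ := C.exists_slHom hη (show 4 < chevB2.nroots by decide +kernel)
  have hY : ∀ t, φ (slY t) = C.xGL 3 t := fun t => by
    rw [(hφ t).2, show chevB2.neg 4 = 3 by decide +kernel]
  have hsl : (slY β : SpecialLinearGroup (Fin 2) F) =
      (slX β * slY β) * (slX β * slY β) * (slX 1 * slY 1 * slX 1) := by
    refine sl_ext fun i j => ?_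
    simp only [sl_mul]
    fin_cases i <;> fin_cases j <;>
      simp [slX, slY, Matrix.mul_apply, Fin.sum_univ_two, Matrix.vecMul, dotProduct] <;>
      grind
  have k8 : C.xGL 3 β ∈ H := by
    rw [← hY, hsl]
    simp only [map_mul, hY, (hφ _).1]
    exact mul_mem (mul_mem k7 k7) (mul_mem (mul_mem (h1 4) (h1 3)) (h1 4))
  have k9 : C.xGL 7 β ∈ H := by
    have h := mul_mem (mul_mem (hN ⟨1, by decide +kernel⟩) k8)
      (inv_mem (hN ⟨1, by decide +kernel⟩))
    rw [nS_conj_char_two C _ 3 4 (by decide +kernel) (by decide +kernel)] at h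
    have h' := mul_mem (mul_mem (hN ⟨0, by decide +kernel⟩) h)
      (inv_mem (hN ⟨0, by decide +kernel⟩))
    rwa [nS_conj_char_two C _ 4 7 (by decide +kernel) (by decide +kernel)] at h'
  rcases hA01 β (hO.top_mem β k9) with h | h <;> rw [h] at hb <;>
    simp [CharTwo.add_self_eq_zero] at hb

end B2

section G2

variable {F : Type*} [Field F] {C : ChevCore chevG2 F}
  {H : Subgroup (GL chevG2.Idx F)} {A : AddSubgroup F}

/-- `G₂` over the fields with two and three elements. -/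
theorem d_mem_G2 [Infinite F] (p : ℕ) [Fact p.Prime] [CharP F p] (hp : p = 2 ∨ p = 3)
    (hB : Base chevG2 3 1) (hη : C.EtaNeg) (hO : Over C H A) (hA : ∀ t ∈ A, t ^ p = t)
    (hcard : Nat.card A = p) {u : GL chevG2.Idx F} (hu : u ∈ qGroup C) {d : F}
    (hy : u * C.xGL 0 d * u⁻¹ ∈ H) : d ∈ A := by
  rcases eq_or_ne d 0 with rfl | hd0
  · exact A.zero_mem
  have hg : pairOK chevG2 6 10 = true := by decide +kernel
  obtain ⟨η, hη'⟩ := exists_eta hB hg hu
  obtain hd | ⟨hηA, hη4, hd4, -, φ, G, hφ, hyG, hxG, hlift⟩ := pair_cases hB hη hO p hg hu hy hη'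
  · exact hd
  let w := C.hR.sPerm ⟨1, by decide +kernel⟩ * C.hR.sPerm ⟨0, by decide +kernel⟩
  have hw : ∀ (s r : ℕ) (hs : s < chevG2.nroots),
      chevG2.reflectRoot 1 (chevG2.reflectRoot 0 s) = r → (w ⟨s, hs⟩).val = r := fun s r hs h => by
    simp only [w, Equiv.Perm.mul_apply, C.hR.sPerm_val]; exact h
  have hwm : w ∈ C.hR.weyl := mul_mem (C.hR.sPerm_mem _) (C.hR.sPerm_mem _)
  have hact : ∀ (c : Fˣ) (s r : ℕ) (hs : s < chevG2.nroots),
      chevG2.reflectRoot 1 (chevG2.reflectRoot 0 s) = r → ∀ t,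
      φ (diagEl c) * C.xGL r t * (φ (diagEl c))⁻¹ =
        C.xGL r (((c ^ chevG2.cartan 1 s : Fˣ) : F) * t) := by
    intro c s r hs h t
    have := diag_conj hB hφ hwm ⟨1, by decide +kernel⟩ (hw _ _ _ (by decide +kernel)) c ⟨s, hs⟩ t
    rwa [hw s r hs h] at this
  have htop : ∀ t, C.xGL 11 t ∈ conjH H u → t ∈ A := fun t ht => (top_mem_conjH hB hO hu).1 ht
  rcases hp with rfl | rfl
  swap
  · refine absurd ?_ hηA
    have h3 : (3 : F) = 0 := by exact_mod_cast CharP.cast_eq_zero F 3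
    set ι := φ (diagEl (-1))
    have hιm : ι ∈ conjH H u := neg_one_mem_conjH hB 3 (by norm_num) hO hφ hu hd0 hy
    have hW : C.xGL 6 1 * C.xGL 11 η ∈ conjH H u := by
      show C.xGL 6 1 * C.xGL (topRoot chevG2) η ∈ conjH H u
      rw [mem_conjH, show η = 1 * η from (one_mul η).symm, ← hη' 1,
        show u * (u⁻¹ * C.xGL 6 1 * u) * u⁻¹ = C.xGL 6 1 by group]
      exact hO.mem 6 1 hO.one
    have i6 : ι * C.xGL 6 1 * ι⁻¹ = C.xGL 6 (-1) := by
      rw [hact (-1) 1 6 (by decide +kernel) (by decide +kernel) 1,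
        show chevG2.cartan 1 1 = 1 by decide +kernel]
      simp
    have i11 : ι * C.xGL 11 η * ι⁻¹ = C.xGL 11 η := by
      rw [hact (-1) 6 11 (by decide +kernel) (by decide +kernel) η,
        show chevG2.cartan 1 6 = 2 by decide +kernel]
      simp
    have h := mul_mem hW (mul_mem (mul_mem hιm hW) (inv_mem hιm))
    have hc := cm_eq C 11 6 (by decide +kernel) η (-1)
    rw [show ι * (C.xGL 6 1 * C.xGL 11 η) * ι⁻¹ =
        (ι * C.xGL 6 1 * ι⁻¹) * (ι * C.xGL 11 η * ι⁻¹) by group, i6, i11, mul_assoc,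
      ← mul_assoc (C.xGL 11 η), hc, mul_assoc, ← C.xGL_add, ← mul_assoc, ← C.xGL_add,
      add_neg_cancel, C.xGL_zero, one_mul] at h
    have := A.neg_mem (htop _ h)
    rwa [show -(η + η) = η by linear_combination (-η) * h3] at this
  have h2 : (2 : F) = 0 := by exact_mod_cast CharP.cast_eq_zero F 2
  have hneg : ∀ t : F, -t = t := CharTwo.neg_eq
  rw [hcard] at hη4 hd4
  by_contra hdA
  have hq : ∀ t : F, t ^ 2 ^ 2 = t → t ∉ A → t * (t + 1) = 1 := by
    intro t ht htA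
    have ht0 : t ≠ 0 := fun e => htA (e ▸ A.zero_mem)
    have ht1 : t - 1 ≠ 0 := fun e => htA (sub_eq_zero.1 e ▸ hO.one)
    have h : t * (t - 1) * (t * (t + 1) + 1) = 0 := by norm_num at ht; linear_combination ht
    have h' := (mul_eq_zero.1 h).resolve_left (mul_ne_zero ht0 ht1)
    linear_combination h' + (-1 : F) * h2
  have hdd := hq d hd4 hdA
  have hηη := hq η hη4 hηA
  have hdη : d = η ∨ d = η + 1 := by
    rcases mul_eq_zero.1 (show (d + η) * (d + η + 1) = 0 by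
      linear_combination hdd + hηη + (d * η + 1) * h2) with h | h
    · exact Or.inl (by linear_combination h - η * h2)
    · exact Or.inr (by linear_combination h - (η + 1) * h2)
  have hX1 : slX 1 ∈ G := by simpa using hxG 0 A.zero_mem 1 hO.one
  have hXη : slX η ∈ G := by simpa using hxG 1 hO.one 0 A.zero_mem
  have hXη1 : slX (1 + η) ∈ G := by simpa using hxG 1 hO.one 1 hO.one
  have hXd : slX d ∈ G ∧ slX (d + 1) ∈ G := by
    rcases hdη with rfl | rfl
    · exact ⟨hXη, by rwa [add_comm]⟩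
    · exact ⟨by rwa [add_comm], by rwa [add_assoc, CharTwo.add_self_eq_zero, add_zero]⟩
  set w' := slX (d + 1) * slY d * slX (d + 1) with hw'
  have hw'G : w' ∈ G := mul_mem (mul_mem hXd.2 hyG) hXd.2
  have hy1 : slY 1 ∈ G := by
    have hh : (slY 1 : SpecialLinearGroup (Fin 2) F) * w' = w' * slX d := by
      refine sl_ext fun i j => ?_
      simp only [hw', sl_mul]
      fin_cases i <;> fin_cases j <;>
        simp [slX, slY, Matrix.mul_apply, Fin.sum_univ_two, Matrix.vecMul, dotProduct] <;> grind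
    rw [show (slY 1 : SpecialLinearGroup (Fin 2) F) = w' * slX d * w'⁻¹ by rw [← hh, mul_inv_cancel_right]]
    exact mul_mem (mul_mem hw'G hXd.1) (inv_mem hw'G)
  have hl0 : d + 1 ≠ 0 := right_ne_zero_of_mul_eq_one hdd
  set l : Fˣ := Units.mk0 (d + 1) hl0
  have hDG : diagEl l ∈ G := by
    have hh : diagEl l = w' * (slX 1 * slY 1 * slX 1) := by
      have hinv : (d + 1)⁻¹ = d := inv_eq_of_mul_eq_one_left hdd
      refine sl_ext fun i j => ?_
      simp only [hw', sl_mul]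
      fin_cases i <;> fin_cases j <;>
        simp [diagEl, l, hinv, slX, slY, Matrix.mul_apply, Fin.sum_univ_two, Matrix.vecMul,
          dotProduct] <;> grind
    rw [hh]
    exact mul_mem hw'G (mul_mem (mul_mem hX1 hy1) hX1)
  obtain ⟨a, v, hh⟩ := hlift _ hDG
  rw [show chevG2.neg 10 = 1 by decide +kernel] at hh
  have hsh : ∀ q ∈ qList chevG2, ∃ m, C.xGL q 1 * C.xGL 11 m ∈ conjH H u := by
    intro q hq
    obtain ⟨m, hm⟩ := exists_top_shift hB (by decide +kernel) hq 1 hu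
    refine ⟨m, ?_⟩
    show C.xGL q 1 * C.xGL (topRoot chevG2) m ∈ conjH H u
    rw [mem_conjH, ← hm, show u * (u⁻¹ * C.xGL q 1 * u) * u⁻¹ = C.xGL q 1 by group]
    exact hO.mem q 1 hO.one
  obtain ⟨m, hs⟩ := hsh 8 (by decide +kernel)
  obtain ⟨m', hz⟩ := hsh 9 (by decide +kernel)
  have e1 := comm_eq C 11 1 (by decide +kernel) (by decide +kernel) (by decide) (by decide +kernel)
    (L := [(6, 1, 1, 1)]) (by decide +kernel) m v
  simp only [List.map_cons, List.map_nil, List.prod_cons, List.prod_nil, mul_one, Int.cast_one,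
    one_mul, pow_one, hneg] at e1
  have hn : C.xGL 6 a * C.xGL 1 v * (C.xGL 8 1 * C.xGL 11 m) * (C.xGL 6 a * C.xGL 1 v)⁻¹ =
      C.xGL 8 1 * (C.xGL 11 m * C.xGL 6 (m * v)) := by
    have c1 := cm_eq C 1 8 (by decide +kernel) v 1
    have c2 := cm_eq C 6 8 (by decide +kernel) a 1
    have c3 := cm_eq C 1 6 (by decide +kernel) v (m * v)
    have c4 := cm_eq C 6 11 (by decide +kernel) a m
    have c5 : C.xGL 6 a * C.xGL 6 (m * v) = C.xGL 6 (m * v) * C.xGL 6 a := by
      rw [← C.xGL_add, ← C.xGL_add, add_comm]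
    rw [mul_inv_eq_iff_eq_mul]
    calc C.xGL 6 a * C.xGL 1 v * (C.xGL 8 1 * C.xGL 11 m)
        = C.xGL 6 a * (C.xGL 1 v * C.xGL 8 1) * C.xGL 11 m := by group
      _ = (C.xGL 6 a * C.xGL 8 1) * (C.xGL 1 v * C.xGL 11 m) := by rw [c1]; group
      _ = C.xGL 8 1 * C.xGL 6 a * (C.xGL 11 m * (C.xGL 1 v * C.xGL 6 (m * v))) := by
          rw [c2, e1]; group
      _ = C.xGL 8 1 * (C.xGL 6 a * C.xGL 11 m) * (C.xGL 6 (m * v) * C.xGL 1 v) := by
          rw [c3]; group
      _ = C.xGL 8 1 * (C.xGL 11 m * (C.xGL 6 a * C.xGL 6 (m * v))) * C.xGL 1 v := by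
          rw [c4]; group
      _ = _ := by rw [c5]; group
  have a8 := hact l 4 8 (by decide +kernel) (by decide +kernel) 1
  rw [show chevG2.cartan 1 4 = 1 by decide +kernel, zpow_one, mul_one,
    show ((l : Fˣ) : F) = d + 1 from rfl] at a8
  have a11 := hact l 6 11 (by decide +kernel) (by decide +kernel) m
  have a6 := hact l 1 6 (by decide +kernel) (by decide +kernel) (m * v)
  have hK := mul_mem (mul_mem hh hs) (inv_mem hh)
  rw [show φ (diagEl l) * (C.xGL 6 a * C.xGL 1 v) * (C.xGL 8 1 * C.xGL 11 m) *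
      (φ (diagEl l) * (C.xGL 6 a * C.xGL 1 v))⁻¹ =
      φ (diagEl l) * (C.xGL 6 a * C.xGL 1 v * (C.xGL 8 1 * C.xGL 11 m) *
        (C.xGL 6 a * C.xGL 1 v)⁻¹) * (φ (diagEl l))⁻¹ by group, hn,
    show φ (diagEl l) * (C.xGL 8 1 * (C.xGL 11 m * C.xGL 6 (m * v))) * (φ (diagEl l))⁻¹ =
      (φ (diagEl l) * C.xGL 8 1 * (φ (diagEl l))⁻¹) *
      ((φ (diagEl l) * C.xGL 11 m * (φ (diagEl l))⁻¹) *
        (φ (diagEl l) * C.xGL 6 (m * v) * (φ (diagEl l))⁻¹)) by group, a8, a11, a6] at hK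
  generalize ((l ^ chevG2.cartan 1 6 : Fˣ) : F) * m = a' at hK
  generalize ((l ^ chevG2.cartan 1 1 : Fˣ) : F) * (m * v) = b' at hK
  have e2 := comm_eq C 8 9 (by decide +kernel) (by decide +kernel) (by decide) (by decide +kernel)
    (L := [(11, 3, 1, 1)]) (by decide +kernel) (d + 1) 1
  simp only [List.map_cons, List.map_nil, List.prod_cons, List.prod_nil, mul_one, Int.cast_ofNat,
    pow_one, hneg] at e2
  have hR : Commute (C.xGL 9 1 * C.xGL 11 m') (C.xGL 11 a' * C.xGL 6 b') :=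
    (Commute.mul_right (show Commute (C.xGL 9 1) (C.xGL 11 a') from cm_eq C 9 11 (by decide +kernel) _ _)
      (show Commute (C.xGL 9 1) (C.xGL 6 b') from cm_eq C 9 6 (by decide +kernel) _ _)).mul_left
    (Commute.mul_right (show Commute (C.xGL 11 m') (C.xGL 11 a') from by
        show _ * _ = _ * _; rw [← C.xGL_add, ← C.xGL_add, add_comm])
      (show Commute (C.xGL 11 m') (C.xGL 6 b') from cm_eq C 11 6 (by decide +kernel) _ _))
  have h := mul_mem (inv_mem (mul_mem hK hz)) (mul_mem hz hK)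
  have hfin : (C.xGL 8 (d + 1) * (C.xGL 11 a' * C.xGL 6 b') * (C.xGL 9 1 * C.xGL 11 m'))⁻¹ *
      (C.xGL 9 1 * C.xGL 11 m' * (C.xGL 8 (d + 1) * (C.xGL 11 a' * C.xGL 6 b'))) =
      C.xGL 11 (3 * (d + 1)) := by
    have c8 := cm_eq C 11 8 (by decide +kernel) m' (d + 1)
    have c9 := cm_eq C 11 9 (by decide +kernel) (3 * (d + 1)) 1
    have c11 : C.xGL 11 (3 * (d + 1)) * C.xGL 11 m' = C.xGL 11 m' * C.xGL 11 (3 * (d + 1)) := by
      rw [← C.xGL_add, ← C.xGL_add, add_comm]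
    have c6 : C.xGL 11 (3 * (d + 1)) * (C.xGL 11 a' * C.xGL 6 b') =
        C.xGL 11 a' * C.xGL 6 b' * C.xGL 11 (3 * (d + 1)) := by
      rw [← mul_assoc, ← C.xGL_add, mul_assoc, ← cm_eq C 11 6 (by decide +kernel),
        ← mul_assoc, ← C.xGL_add, add_comm]
    rw [inv_mul_eq_iff_eq_mul]
    calc C.xGL 9 1 * C.xGL 11 m' * (C.xGL 8 (d + 1) * (C.xGL 11 a' * C.xGL 6 b'))
        = C.xGL 9 1 * (C.xGL 11 m' * C.xGL 8 (d + 1)) * (C.xGL 11 a' * C.xGL 6 b') := by group
      _ = (C.xGL 9 1 * C.xGL 8 (d + 1)) * (C.xGL 11 m' * (C.xGL 11 a' * C.xGL 6 b')) := by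
          rw [c8]; group
      _ = C.xGL 8 (d + 1) * C.xGL 9 1 * (C.xGL 11 (3 * (d + 1)) * C.xGL 11 m') *
          (C.xGL 11 a' * C.xGL 6 b') := by rw [e2]; group
      _ = C.xGL 8 (d + 1) * (C.xGL 9 1 * C.xGL 11 m') *
          (C.xGL 11 (3 * (d + 1)) * (C.xGL 11 a' * C.xGL 6 b')) := by rw [c11]; group
      _ = C.xGL 8 (d + 1) * (C.xGL 9 1 * C.xGL 11 m' * (C.xGL 11 a' * C.xGL 6 b')) *
          C.xGL 11 (3 * (d + 1)) := by rw [c6]; group
      _ = _ := by rw [hR.eq]; group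
  rw [hfin, show 3 * (d + 1) = d + 1 by linear_combination (d + 1) * h2] at h
  exact hdA (by simpa using A.sub_mem (htop _ h) hO.one)

end G2

/-- `B₂` for any finite field of parameters. -/
theorem d_mem_B2 {F : Type*} [Field F] [Infinite F] (p : ℕ) [Fact p.Prime] [CharP F p]
    {C : ChevCore chevB2 F} (hη : C.EtaNeg) {H : Subgroup (GL chevB2.Idx F)} {A : AddSubgroup F}
    (hB : Base chevB2 1 1) (hO : Over C H A) {u : GL chevB2.Idx F} (hu : u ∈ qGroup C) {d : F}
    (hy : u * C.xGL 0 d * u⁻¹ ∈ H) : d ∈ A := by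
  by_cases hcard : 4 ≤ Nat.card A
  · exact d_mem_of_card hB hη hO p hcard hu hy
  have : Finite A := finite_A hO hB.top_pos.1
  obtain ⟨-, rfl | rfl, hpow⟩ := small_eq p hO.one hO.mul (not_le.1 hcard)
  · exact d_mem_B2_two hB hη hO hpow hu hy
  · exact d_mem_B2_three hB hη hO hu hy

/-- `G₂` for any finite field of parameters. -/
theorem d_mem_G2_any {F : Type*} [Field F] [Infinite F] (p : ℕ) [Fact p.Prime] [CharP F p]
    {C : ChevCore chevG2 F} (hη : C.EtaNeg) {H : Subgroup (GL chevG2.Idx F)} {A : AddSubgroup F}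
    (hB : Base chevG2 3 1) (hO : Over C H A) {u : GL chevG2.Idx F} (hu : u ∈ qGroup C) {d : F}
    (hy : u * C.xGL 0 d * u⁻¹ ∈ H) : d ∈ A := by
  by_cases hcard : 4 ≤ Nat.card A
  · exact d_mem_of_card hB hη hO p hcard hu hy
  have : Finite A := finite_A hO hB.top_pos.1
  obtain ⟨hc, hp, hpow⟩ := small_eq p hO.one hO.mul (not_le.1 hcard)
  exact d_mem_G2 p hp hB hη hO hpow hc hu hy

end CfsgLib.SubfieldOver
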