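import Cfsg.Agent.Lib.SubfieldOver.Entry
import Cfsg.Agent.Lib.SubfieldOver.Small
import Cfsg.Agent.Lib.SubfieldOver.ChecksE7
import Cfsg.Agent.Lib.SubfieldOver.ChecksE8
import Cfsg.Agent.Lib.ChevStr.Perfect

/-! The seven tabulated types: the checks, simplicity, and the absence of exceptional parameters. -/

set_option autoImplicit false

namespace CfsgLib.SubfieldOver

open Cfsg.Lie CfsgLib.ChevStr

/-- What the overgroup theorem needs from a type. -/
def TypeData (D : ChevalleyDatum) (F : Type*) [Field F] (p : ℕ) : Prop :=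
  ∃ s₀ i₀, ∃ _ : Base D s₀ i₀, IsSimpleGroup ↥(D.group F) ∧
    ∀ (C : ChevCore D F), C.EtaNeg → ∀ (H : Subgroup (GL D.Idx F)) (A : AddSubgroup F),
      Over C H A → ∀ u ∈ qGroup C, ∀ d, u * C.xGL 0 d * u⁻¹ ∈ H → d ∈ A

variable {F : Type*} [Field F] [Infinite F] (p : ℕ) [Fact p.Prime] [CharP F p]

omit [CharP F p] [Fact p.Prime] in
theorem exists_ne_zero_one : ∃ a : F, a ≠ 0 ∧ a ≠ 1 := by
  classical
  obtain ⟨a, ha⟩ := Infinite.exists_notMem_finset ({0, 1} : Finset F)
  exact ⟨a, by simpa using ha⟩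

theorem typeG2 : TypeData chevG2 F p :=
  have hB : Base chevG2 3 1 := Base.of_check (by decide +kernel)
  ⟨3, 1, hB, ((coreG2 F).group_isSimple (by decide +kernel) diagramConnectedG2
      (perfectG2 exists_ne_zero_one)).1,
    fun C hη _ _ hO _ hu _ hy => d_mem_G2_any p hη hB hO hu hy⟩

theorem typeB2 : TypeData chevB2 F p :=
  have hB : Base chevB2 1 1 := Base.of_check (by decide +kernel)
  ⟨1, 1, hB, ((coreB2 F).group_isSimple (by decide +kernel) diagramConnectedB2
      (perfectB2 exists_ne_zero_one)).1,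
    fun C hη _ _ hO _ hu _ hy => d_mem_B2 p hη hB hO hu hy⟩

theorem typeD4 : TypeData chevD4 F p :=
  have hB : Base chevD4 0 1 := Base.of_check (by decide +kernel)
  ⟨0, 1, hB, ((coreD4 F).group_isSimple (by decide +kernel) diagramConnectedD4
      (perfect_of_check (coreD4 F) (by decide +kernel))).1,
    fun C hη _ _ hO _ hu _ hy => d_mem_of_triple hB hη p hO
      (g₁ := 14) (g₁' := 22) (g₂ := 15) (g₂' := 21) (e := 12) (by decide +kernel) hu hy⟩

theorem typeF4 : TypeData chevF4 F p :=
  have hB : Base chevF4 8 2 := Base.of_check (by decide +kernel)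
  ⟨8, 2, hB, ((coreF4 F).group_isSimple (by decide +kernel) diagramConnectedF4
      (perfect_of_check (coreF4 F) (by decide +kernel))).1,
    fun C hη _ _ hO _ hu _ hy => d_mem_of_triple hB hη p hO
      (g₁ := 24) (g₁' := 46) (g₂ := 26) (g₂' := 45) (e := 25) (by decide +kernel) hu hy⟩

theorem typeE6 : TypeData chevE6 F p :=
  have hB : Base chevE6 0 1 := Base.of_check (by decide +kernel)
  ⟨0, 1, hB, ((coreE6 F).group_isSimple (by decide +kernel) diagramConnectedE6
      (perfect_of_check (coreE6 F) (by decide +kernel))).1,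
    fun C hη _ _ hO _ hu _ hy => d_mem_of_triple hB hη p hO
      (g₁ := 46) (g₁' := 70) (g₂ := 47) (g₂' := 69) (e := 39) (by decide +kernel) hu hy⟩

theorem typeE7 : TypeData chevE7 F p :=
  have hB : Base chevE7 125 0 := ChecksE7.base
  ⟨125, 0, hB, ((coreE7 F).group_isSimple (by decide +kernel) diagramConnectedE7
      (perfect_of_check (coreE7 F) (by decide +kernel))).1,
    fun C hη _ _ hO _ hu _ hy => d_mem_of_triple hB hη p hO
      (g₁ := 97) (g₁' := 120) (g₂ := 98) (g₂' := 119) (e := 63) ChecksE7.triple hu hy⟩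

theorem typeE8 : TypeData chevE8 F p :=
  have hB : Base chevE8 239 0 := ChecksE8.base
  ⟨239, 0, hB, ((coreE8 F).group_isSimple (by decide +kernel) diagramConnectedE8
      (perfect_of_check (coreE8 F) (by decide +kernel))).1,
    fun C hη _ _ hO _ hu _ hy => d_mem_of_triple hB hη p hO
      (g₁ := 120) (g₁' := 238) (g₂ := 122) (g₂' := 237) (e := 121) ChecksE8.triple hu hy⟩

theorem exists_typeData {D : ChevalleyDatum}
    (hD : D ∈ [chevG2, chevB2, chevD4, chevF4, chevE6, chevE7, chevE8]) : TypeData D F p := by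
  simp only [List.mem_cons, List.not_mem_nil, or_false] at hD
  rcases hD with rfl | rfl | rfl | rfl | rfl | rfl | rfl
  exacts [typeG2 p, typeB2 p, typeD4 p, typeF4 p, typeE6 p, typeE7 p, typeE8 p]

end CfsgLib.SubfieldOver
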