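import Cfsg.Agent.Lib.SubfieldOver.Lift
import Cfsg.Agent.Lib.SubfieldOver.Tables
import Mathlib.FieldTheory.Finite.GaloisField

/-!
Finite overgroups of a Chevalley group over a finite field inside the group over an algebraically
closed field: they lie between the group over a larger finite field and its points.
-/

set_option autoImplicit false

namespace CfsgLib.SubfieldOver

open Cfsg.Lie CfsgLib.ChevStr Matrix
open CfsgLib.ChevStr.ChevCore (slX slY)

variable {D : ChevalleyDatum} {F : Type*} [Field F]

/-- The parameters of the highest root elements in `H`. -/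
def topSet (C : ChevCore D F) (H : Subgroup (GL D.Idx F)) : AddSubgroup F where
  carrier := {t | C.xGL (topRoot D) t ∈ H}
  zero_mem' := by show C.xGL _ 0 ∈ H; rw [C.xGL_zero]; exact one_mem _
  add_mem' := fun {a b} ha hb => by show C.xGL _ (a + b) ∈ H; rw [C.xGL_add]; exact mul_mem ha hb
  neg_mem' := fun {a} ha => by show C.xGL _ (-a) ∈ H; rw [← C.xGL_inv]; exact inv_mem ha

theorem topSet_mul {C : ChevCore D F} {s₀ i₀ : ℕ} (hB : Base D s₀ i₀) (hη : C.EtaNeg) [Infinite F]
    (p : ℕ) [Fact p.Prime] [CharP F p] {H : Subgroup (GL D.Idx F)} [Finite H]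
    (h1 : ∀ r, C.xGL r 1 ∈ H) :
    ∀ a ∈ topSet C H, ∀ b ∈ topSet C H, a * b ∈ topSet C H := by
  have htop := hB.top_pos.1
  have : Finite (topSet C H) := Finite.of_injective
    (fun t : topSet C H => (⟨C.xGL (topRoot D) t, t.2⟩ : H))
    fun _ _ h => Subtype.ext (C.xGL_injective htop (congrArg Subtype.val h))
  have hone : (1 : F) ∈ topSet C H := h1 _
  by_cases hcard : 4 ≤ Nat.card (topSet C H)
  · obtain ⟨φ, -, hφ⟩ := C.exists_slHom hη htop
    have hY : ∀ t, φ (slY t) = C.xGL 0 t := fun t => by rw [(hφ t).2, hB.neg_top]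
    have hker : (φ.ker : Set (SpecialLinearGroup (Fin 2) F)).Finite := by
      refine finite_of_normal φ.ker (fun t ht => ?_) (fun t ht => ?_)
      · rw [MonoidHom.mem_ker, (hφ t).1, C.xGL_eq_one_iff htop] at ht; exact ht
      · rw [MonoidHom.mem_ker, hY, C.xGL_eq_one_iff hB.pos] at ht; exact ht
    have : Finite (H.comap φ) := by
      have : Finite φ.ker := hker.to_subtype
      let f : H.comap φ →* H := φ.subgroupComap H
      have : Finite f.ker := Finite.of_injective (fun x : f.ker => (⟨x.1.1, by
        have := congrArg Subtype.val (MonoidHom.mem_ker.1 x.2); exact this⟩ : φ.ker))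
        fun x y h => Subtype.ext (Subtype.ext (congrArg (fun z : φ.ker => z.1) h))
      have : Finite (H.comap φ ⧸ f.ker) :=
        Finite.of_injective (QuotientGroup.kerLift f) (QuotientGroup.kerLift_injective f)
      exact Finite.of_subgroup_quotient f.ker
    have hup : upperSet (H.comap φ) = topSet C H := by
      ext t
      rw [mem_upperSet, Subgroup.mem_comap, (hφ t).1]
      rfl
    have h := (field_of_upper p (H.comap φ) (by rw [hup]; exact hcard) (by rw [hup]; exact hone)
      one_ne_zero (by rw [Subgroup.mem_comap, hY]; exact h1 0)).2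
    rwa [hup] at h
  · have hord : addOrderOf (1 : F) = p := CharP.eq F (CharP.addOrderOf_one F) inferInstance
    have hle : AddSubgroup.zmultiples (1 : F) ≤ topSet C H :=
      AddSubgroup.zmultiples_le_of_mem hone
    have hdvd := AddSubgroup.card_dvd_of_le hle
    rw [Nat.card_zmultiples, hord] at hdvd
    have hp2 := (Fact.out : p.Prime).two_le
    have hpos : 0 < Nat.card (topSet C H) := Nat.card_pos
    obtain ⟨c, hc⟩ := hdvd
    have hc1 : c = 1 := by
      rcases c with _ | _ | c
      · omega
      · rfl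
      · have : p * 2 ≤ p * (c + 1 + 1) := Nat.mul_le_mul_left p (by omega)
        omega
    rw [hc1, mul_one] at hc
    have heq : AddSubgroup.zmultiples (1 : F) = topSet C H :=
      AddSubgroup.eq_of_le_of_card_ge hle (by rw [Nat.card_zmultiples, hord, hc])
    intro a ha b hb
    rw [← heq] at ha hb ⊢
    obtain ⟨i, rfl⟩ := AddSubgroup.mem_zmultiples_iff.1 ha
    obtain ⟨j, rfl⟩ := AddSubgroup.mem_zmultiples_iff.1 hb
    exact AddSubgroup.mem_zmultiples_iff.2 ⟨i * j, by simp [zsmul_eq_mul]⟩

/-- Finite overgroups of the group over a finite field. -/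
theorem overgroup {F : Type*} [Field F] [IsAlgClosed F] (p : ℕ) [Fact p.Prime] [CharP F p]
    (hD : D ∈ [chevG2, chevB2, chevD4, chevF4, chevE6, chevE7, chevE8]) (a : ℕ) (ha : 1 ≤ a)
    (H : Subgroup (GL D.Idx F)) [Finite H] (hle : H ≤ D.group F) (C : ChevCore D F) (hη : C.EtaNeg)
    (hmem : ∀ r t, t ^ (p ^ a) = t → C.xGL r t ∈ H) :
    ∃ r : ℕ, 1 ≤ r ∧ (∀ s t, t ^ ((p ^ a) ^ r) = t → C.xGL s t ∈ H) ∧
      (∀ g ∈ H, ∀ i j : D.Idx,
        ((g : Matrix D.Idx D.Idx F) i j) ^ ((p ^ a) ^ r) = (g : Matrix D.Idx D.Idx F) i j) ∧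
      ∃ S : Subfield F, Nat.card S = (p ^ a) ^ r ∧ (∀ t, t ^ ((p ^ a) ^ r) = t ↔ t ∈ S) ∧
        topRoot D < D.nroots := by
  classical
  obtain ⟨s₀, i₀, hB, hsimple, hdmem⟩ := exists_typeData p hD (F := F)
  have htop := hB.top_pos.1
  have h1 : ∀ r, C.xGL r 1 ∈ H := fun r => hmem r 1 (one_pow _)
  have hmul := topSet_mul hB hη p h1
  have hone : (1 : F) ∈ topSet C H := h1 _
  have : Finite (topSet C H) := Finite.of_injective
    (fun t : topSet C H => (⟨C.xGL (topRoot D) t, t.2⟩ : H))
    fun _ _ h => Subtype.ext (C.xGL_injective htop (congrArg Subtype.val h))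
  obtain ⟨hinv, -⟩ := pow_natCard_eq (topSet C H) hone hmul
  let S : Subfield F :=
    { carrier := topSet C H
      mul_mem' := fun {x y} hx hy => hmul x hx y hy
      one_mem' := hone
      add_mem' := fun {x y} hx hy => add_mem hx hy
      zero_mem' := (topSet C H).zero_mem
      neg_mem' := fun {x} hx => neg_mem hx
      inv_mem' := fun x hx => hinv x hx }
  have hxS : ∀ s, ∀ t ∈ S, C.xGL s t ∈ H := by
    intro s t ht
    by_cases hs : s < D.nroots
    · exact gen_all C hB H (fun r _ => h1 r) (S : Set F) (fun x hx => hinv x hx) (fun x hx => hx)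
        s hs t ht
    · rw [C.xGL_of_le (not_lt.1 hs)]; exact one_mem _
  have hO : Over C H S.toAddSubgroup :=
    ⟨inferInstance, hle, fun r t ht => hxS r t ht, fun t ht => ht, hone, hmul⟩
  -- the size of the field of parameters
  have : Finite S := ‹Finite (topSet C H)›
  let _ : Fintype S := Fintype.ofFinite S
  let _ := ZMod.algebra F p
  let j : GaloisField p a →+* F := (IsAlgClosed.lift : GaloisField p a →ₐ[ZMod p] F).toRingHom
  let _ : Fintype (GaloisField p a) := Fintype.ofFinite _
  have hcardGF : Fintype.card (GaloisField p a) = p ^ a := by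
    rw [← Nat.card_eq_fintype_card, GaloisField.card p a (by omega)]
  have hj : ∀ x, j x ∈ S := fun x => hmem _ _ (by
    rw [← map_pow, ← hcardGF, FiniteField.pow_card])
  let _ : Algebra (GaloisField p a) S := (j.codRestrict S hj).toAlgebra
  have hcardS := Module.card_eq_pow_finrank (K := GaloisField p a) (V := S)
  rw [hcardGF] at hcardS
  set r := Module.finrank (GaloisField p a) S
  have hr : 1 ≤ r := Module.finrank_pos
  have hN : 1 < (p ^ a) ^ r :=
    Nat.one_lt_pow (by omega) (Nat.one_lt_pow (by omega) (Fact.out : p.Prime).one_lt)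
  have hroots : ∀ t, t ^ ((p ^ a) ^ r) = t ↔ t ∈ S := by
    intro t
    refine ⟨fun ht => ?_, fun ht => ?_⟩
    · by_contra htS
      let P : Polynomial F := Polynomial.X ^ ((p ^ a) ^ r) - Polynomial.X
      have hP : P ≠ 0 := FiniteField.X_pow_card_sub_X_ne_zero F hN
      let img : Finset F := (Finset.univ : Finset S).image Subtype.val
      have hsub : (insert t img).val ⊆ P.roots := by
        intro x hx
        rw [Polynomial.mem_roots hP]
        simp only [P, Polynomial.IsRoot.def, Polynomial.eval_sub, Polynomial.eval_pow,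
          Polynomial.eval_X, sub_eq_zero]
        rcases Finset.mem_insert.1 hx with rfl | hx
        · exact ht
        · obtain ⟨y, -, rfl⟩ := Finset.mem_image.1 hx
          rw [← hcardS, ← SubmonoidClass.coe_pow, FiniteField.pow_card]
      have hle' := Polynomial.card_le_degree_of_subset_roots hsub
      have hnot : t ∉ img := fun hm => by
        obtain ⟨y, -, rfl⟩ := Finset.mem_image.1 hm
        exact htS y.2
      rw [Finset.card_insert_of_notMem hnot, Finset.card_image_of_injective _ Subtype.val_injective,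
        Finset.card_univ, hcardS, FiniteField.X_pow_card_sub_X_natDegree_eq F hN] at hle'
      omega
    · have := congrArg Subtype.val (FiniteField.pow_card (⟨t, ht⟩ : S))
      rwa [SubmonoidClass.coe_pow, hcardS] at this
  refine ⟨r, hr, fun s t ht => hxS s t ((hroots t).1 ht), ?_, S, ?_, hroots, htop⟩
  · intro g hg i j
    let σ : F →+* F := iterateFrobenius F p (a * r)
    have hσ : ∀ t, σ t = t ↔ t ∈ S := fun t => by
      rw [← hroots t, show σ t = t ^ p ^ (a * r) from iterateFrobenius_def .., pow_mul p a r]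
    have hfix := fixed_of_entries hB hsimple hO σ hσ
      (fun g hg => entry_mem hB hO (fun u hu d hd => hdmem C hη H _ hO u hu d hd) hg) hg
    exact (hroots _).2 ((hσ _).1
      (show σ ((g : Matrix D.Idx D.Idx F) i j) = (g : Matrix D.Idx D.Idx F) i j from
        congrFun (congrFun (congrArg (fun x : GL D.Idx F => (x : Matrix D.Idx D.Idx F)) hfix) i) j))
  · rw [Nat.card_eq_fintype_card]; exact hcardS

/-- A subgroup contains the group over `{t | t ^ N = t}` iff it contains its root elements. -/
theorem closure_roots_le (C : ChevCore D F) (N : ℕ) (H : Subgroup (GL D.Idx F)) :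
    Subgroup.closure {g : GL D.Idx F | ∃ (s : ℕ) (t : F), t ^ N = t ∧
      (g : Matrix D.Idx D.Idx F) = D.x F s t} ≤ H ↔ ∀ s t, t ^ N = t → C.xGL s t ∈ H := by
  refine ⟨fun h s t ht => h (Subgroup.subset_closure ⟨s, t, ht, C.coe_xGL s t⟩), fun h => ?_⟩
  refine (Subgroup.closure_le _).2 ?_
  rintro g ⟨s, t, ht, hg⟩
  rw [show g = C.xGL s t from Units.ext (by rw [hg, C.coe_xGL])]
  exact h s t ht

end CfsgLib.SubfieldOver
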