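import Cfsg.Agent.Lib.SubfieldOver.Basic

/-!
A conjugate `u x_bot(d) u⁻¹` of a lowest root element in a finite group containing the root elements
over `A`: either `d ∈ A`, or `A` is small and the parameters of `u` are quadratic over `A`.
-/

set_option autoImplicit false

namespace CfsgLib.SubfieldOver

open Cfsg.Lie CfsgLib.ChevStr Matrix
open CfsgLib.ChevStr.ChevCore (slX slY)

section SL2

variable {F : Type*} [Field F]

theorem sl_mul (A B : SpecialLinearGroup (Fin 2) F) : (A * B).1 = A.1 * B.1 := rfl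

theorem sl_inv (A : SpecialLinearGroup (Fin 2) F) : (A⁻¹).1 = adjugate A.1 := rfl

theorem sl_neg (A : SpecialLinearGroup (Fin 2) F) : (-A).1 = -A.1 := rfl

theorem sl_ext {A B : SpecialLinearGroup (Fin 2) F} (h : ∀ i j, A.1 i j = B.1 i j) : A = B :=
  Subtype.ext (Matrix.ext h)

/-- A normal subgroup of `SL₂` meeting both unitriangular subgroups trivially is finite. -/
theorem finite_of_normal [Infinite F] (K : Subgroup (SpecialLinearGroup (Fin 2) F)) [hK : K.Normal]
    (hX : ∀ t, slX t ∈ K → t = 0) (hY : ∀ t, slY t ∈ K → t = 0) :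
    (K : Set (SpecialLinearGroup (Fin 2) F)).Finite := by
  classical
  refine Set.Finite.subset (Set.toFinite ({1, -1} : Set (SpecialLinearGroup (Fin 2) F))) ?_
  intro g hg
  simp only [Set.mem_insert_iff, Set.mem_singleton_iff]
  have hdet : g.1 0 0 * g.1 1 1 - g.1 0 1 * g.1 1 0 = 1 := by
    have := g.2; rwa [Matrix.det_fin_two] at this
  by_cases h10 : g.1 1 0 = 0
  · rw [h10, mul_zero, sub_zero] at hdet
    have hc : g * slX 1 * g⁻¹ * (slX 1)⁻¹ ∈ K := by
      rw [mul_assoc, mul_assoc]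
      exact mul_mem hg (by simpa [mul_assoc] using hK.conj_mem _ (inv_mem hg) (slX 1))
    have heq : g * slX 1 * g⁻¹ * (slX 1)⁻¹ = slX (g.1 0 0 * g.1 0 0 - 1) := by
      rw [mul_inv_eq_iff_eq_mul, mul_inv_eq_iff_eq_mul, slX_mul]
      refine sl_ext fun i j => ?_
      rw [sl_mul, sl_mul]
      fin_cases i <;> fin_cases j <;>
        simp [slX, Matrix.mul_apply, Fin.sum_univ_two, h10] <;>
        linear_combination (-(g.1 0 0)) * hdet
    rw [heq] at hc
    have ha := sub_eq_zero.1 (hX _ hc)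
    have hd : g.1 1 1 = g.1 0 0 := by linear_combination g.1 0 0 * hdet - g.1 1 1 * ha
    have h2 : slX (2 * (g.1 0 0 * g.1 0 1)) ∈ K := by
      have hgg : g * g = slX (2 * (g.1 0 0 * g.1 0 1)) := by
        refine sl_ext fun i j => ?_
        rw [sl_mul]
        fin_cases i <;> fin_cases j <;>
          simp [slX, Matrix.mul_apply, Fin.sum_univ_two, h10, hd, ha] <;> ring
      rw [← hgg]; exact mul_mem hg hg
    have h01 : g.1 0 1 = 0 := by
      rcases eq_or_ne (2 : F) 0 with e2 | e2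
      · have hg1 : g.1 0 0 = 1 := by
          have : CharP F 2 := CharTwo.of_one_ne_zero_of_two_eq_zero one_ne_zero e2
          rcases mul_self_eq_one_iff.1 ha with h | h
          · exact h
          · rw [h, CharTwo.neg_eq]
        refine hX _ ?_
        have hgX : g = slX (g.1 0 1) := by
          refine sl_ext fun i j => ?_
          fin_cases i <;> fin_cases j <;> simp [slX, h10, hd, hg1]
        rwa [← hgX]
      · have hne : g.1 0 0 ≠ 0 := fun e => one_ne_zero (α := F) (by rw [← ha, e, mul_zero])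
        simpa [e2, hne] using hX _ h2
    rcases mul_self_eq_one_iff.1 ha with h | h
    · exact Or.inl (sl_ext fun i j => by
        fin_cases i <;> fin_cases j <;> simp [h10, h01, hd, h])
    · exact Or.inr (sl_ext fun i j => by
        rw [sl_neg]
        fin_cases i <;> fin_cases j <;> simp [h10, h01, hd, h])
  · exfalso
    -- make the first diagonal entry vanish
    set c := g.1 1 0
    set g' := slX (-(g.1 0 0 / c)) * g * (slX (-(g.1 0 0 / c)))⁻¹ with hg'
    have hg'K : g' ∈ K := hK.conj_mem g hg _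
    set d := g.1 0 0 + g.1 1 1
    have hc0 : g.1 1 0 ≠ 0 := h10
    have hdet' : g.1 0 0 * g.1 1 1 - g.1 0 1 * g.1 1 0 = 1 := hdet
    have hg'm : g'.1 = !![0, -1 / c; c, d] := by
      rw [hg', slX_inv, sl_mul, sl_mul]
      ext i j
      fin_cases i <;> fin_cases j <;>
        simp [slX, Matrix.mul_apply, Fin.sum_univ_two, Matrix.vecMul, dotProduct, c, d] <;>
        field_simp <;>
        first
          | linear_combination (-1 : F) * hdet'
          | ring
    obtain ⟨a, ha⟩ := Infinite.exists_notMem_finset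
      ((Polynomial.X ^ 5 - Polynomial.X : Polynomial F).roots.toFinset)
    have hne : (Polynomial.X ^ 5 - Polynomial.X : Polynomial F) ≠ 0 :=
      FiniteField.X_pow_card_sub_X_ne_zero F (by norm_num : 1 < 5)
    rw [Multiset.mem_toFinset, Polynomial.mem_roots hne] at ha
    simp only [Polynomial.IsRoot.def, Polynomial.eval_sub, Polynomial.eval_pow, Polynomial.eval_X] at ha
    have ha0 : a ≠ 0 := fun e => ha (by rw [e]; ring)
    let h : SpecialLinearGroup (Fin 2) F := ⟨!![a, 0; 0, a⁻¹], by simp [Matrix.det_fin_two, ha0]⟩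
    have hk : h * g' * h⁻¹ * g'⁻¹ ∈ K := mul_mem (hK.conj_mem g' hg'K h) (inv_mem hg'K)
    have hkm : (h * g' * h⁻¹ * g'⁻¹).1 = !![a ^ 2, 0; c * d * (1 / a ^ 2 - 1), 1 / a ^ 2] := by
      rw [sl_mul, sl_mul, sl_mul,
        sl_inv, sl_inv, hg'm, Matrix.adjugate_fin_two,
        Matrix.adjugate_fin_two]
      ext i j
      fin_cases i <;> fin_cases j <;>
        simp [h, Matrix.mul_apply, Fin.sum_univ_two] <;> field_simp <;> ring
    set k := h * g' * h⁻¹ * g'⁻¹
    have hk2 : k * slY 1 * k⁻¹ * (slY 1)⁻¹ ∈ K := by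
      rw [mul_assoc, mul_assoc]
      exact mul_mem hk (by simpa [mul_assoc] using hK.conj_mem _ (inv_mem hk) (slY 1))
    have heq : k * slY 1 * k⁻¹ * (slY 1)⁻¹ = slY (1 / a ^ 4 - 1) := by
      rw [mul_inv_eq_iff_eq_mul, mul_inv_eq_iff_eq_mul]
      refine sl_ext fun i j => ?_
      show (k.1 * (slY 1 : SpecialLinearGroup (Fin 2) F).1) i j =
        ((slY (1 / a ^ 4 - 1) : SpecialLinearGroup (Fin 2) F).1 * (slY 1 : SpecialLinearGroup (Fin 2) F).1 * k.1) i j
      rw [hkm]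
      fin_cases i <;> fin_cases j <;>
        simp [slY, Matrix.mul_apply, Fin.sum_univ_two] <;> field_simp <;> ring
    rw [heq] at hk2
    refine ha ?_
    have := hY _ hk2
    field_simp at this
    linear_combination (-a) * this

end SL2

/-- Finite multiplicatively closed additive subgroups containing `1` are finite fields. -/
theorem pow_natCard_eq {F : Type*} [Field F] (V : AddSubgroup F) [Finite V] (h1 : (1 : F) ∈ V)
    (hmul : ∀ a ∈ V, ∀ b ∈ V, a * b ∈ V) : (∀ t ∈ V, t⁻¹ ∈ V) ∧ ∀ t ∈ V, t ^ Nat.card V = t := by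
  have hinv : ∀ t ∈ V, t⁻¹ ∈ V := by
    intro t ht
    rcases eq_or_ne t 0 with rfl | ht0
    · simp
    let f : V → V := fun x => ⟨t * x, hmul t ht x x.2⟩
    have hf : Function.Injective f := fun x y h =>
      Subtype.ext (mul_left_cancel₀ ht0 (congrArg Subtype.val h))
    obtain ⟨⟨z, hz⟩, hz'⟩ := (Finite.injective_iff_surjective.1 hf) ⟨1, h1⟩
    have hz1 : t * z = 1 := congrArg Subtype.val hz'
    rwa [← eq_inv_of_mul_eq_one_right hz1]
  let S : Subfield F :=
    { carrier := V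
      mul_mem' := fun {a b} ha hb => hmul a ha b hb
      one_mem' := h1
      add_mem' := fun {a b} ha hb => add_mem ha hb
      zero_mem' := V.zero_mem
      neg_mem' := fun {a} ha => neg_mem ha
      inv_mem' := fun a ha => hinv a ha }
  refine ⟨hinv, fun t ht => ?_⟩
  have : Finite S := ‹Finite V›
  let _ : Fintype S := Fintype.ofFinite S
  have h := congrArg Subtype.val (FiniteField.pow_card (⟨t, ht⟩ : S))
  rw [SubmonoidClass.coe_pow, ← Nat.card_eq_fintype_card] at h
  exact h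

variable {D : ChevalleyDatum} {F : Type*} [Field F]

/-- A finite subgroup containing the root elements over `A`, whose top root parameters are in `A`. -/
structure Over (C : ChevCore D F) (H : Subgroup (GL D.Idx F)) (A : AddSubgroup F) : Prop where
  fin : Finite H
  le : H ≤ D.group F
  mem : ∀ r, ∀ t ∈ A, C.xGL r t ∈ H
  top_mem : ∀ t, C.xGL (topRoot D) t ∈ H → t ∈ A
  one : (1 : F) ∈ A
  mul : ∀ a ∈ A, ∀ b ∈ A, a * b ∈ A

variable {C : ChevCore D F} {H : Subgroup (GL D.Idx F)} {A : AddSubgroup F} {s₀ i₀ : ℕ}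

/-- The conjugate of `H` in which `u x_bot(d) u⁻¹` becomes `x_bot(d)`. -/
abbrev conjH (H : Subgroup (GL D.Idx F)) (u : GL D.Idx F) : Subgroup (GL D.Idx F) :=
  H.comap (MulAut.conj u).toMonoidHom

theorem mem_conjH {u x : GL D.Idx F} : x ∈ conjH H u ↔ u * x * u⁻¹ ∈ H := Iff.rfl

theorem finite_conjH (hO : Over C H A) (u : GL D.Idx F) : Finite (conjH H u) :=
  have := hO.fin
  Finite.of_injective (fun x : conjH H u => (⟨u * x * u⁻¹, x.2⟩ : H)) fun x y h => by
    simpa using congrArg Subtype.val h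

theorem finite_A (hO : Over C H A) (htop : topRoot D < D.nroots) : Finite A :=
  have := hO.fin
  Finite.of_injective (fun t : A => (⟨C.xGL (topRoot D) t, hO.mem _ t t.2⟩ : H))
    fun _ _ h => Subtype.ext (C.xGL_injective htop (congrArg Subtype.val h))

variable (hB : Base D s₀ i₀) (hη : C.EtaNeg) (hO : Over C H A)
include hB hO

theorem top_mem_conjH {u : GL D.Idx F} (hu : u ∈ qGroup C) {t : F} :
    C.xGL (topRoot D) t ∈ conjH H u ↔ t ∈ A := by
  rw [mem_conjH, (commute_top C hB (qGroup_le C hu) t).eq, mul_inv_cancel_right]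
  exact ⟨hO.top_mem t, hO.mem _ t⟩

include hη in
/-- With at least four parameters in `A` there are no exceptions. -/
theorem d_mem_of_card [Infinite F] (p : ℕ) [Fact p.Prime] [CharP F p] (hcard : 4 ≤ Nat.card A)
    {u : GL D.Idx F} (hu : u ∈ qGroup C) {d : F} (hy : u * C.xGL 0 d * u⁻¹ ∈ H) : d ∈ A := by
  rcases eq_or_ne d 0 with rfl | hd
  · exact A.zero_mem
  obtain ⟨φ, -, hφ⟩ := C.exists_slHom hη hB.top_pos.1
  have hY : ∀ t, φ (slY t) = C.xGL 0 t := fun t => by rw [(hφ t).2, hB.neg_top]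
  set G := (conjH H u).comap φ with hG
  have hker : (φ.ker : Set (SpecialLinearGroup (Fin 2) F)).Finite := by
    refine finite_of_normal φ.ker (fun t ht => ?_) (fun t ht => ?_)
    · rw [MonoidHom.mem_ker, (hφ t).1, C.xGL_eq_one_iff hB.top_pos.1] at ht; exact ht
    · rw [MonoidHom.mem_ker, hY, C.xGL_eq_one_iff hB.pos] at ht; exact ht
  have : Finite (conjH H u) := finite_conjH hO u
  have : Finite G := by
    have : Finite φ.ker := hker.to_subtype
    let f : G →* conjH H u := φ.subgroupComap (conjH H u)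
    have : Finite f.ker := Finite.of_injective (fun x : f.ker => (⟨x.1.1, by
      have := congrArg Subtype.val (MonoidHom.mem_ker.1 x.2); exact this⟩ : φ.ker))
      fun x y h => Subtype.ext (Subtype.ext (congrArg (fun z : φ.ker => z.1) h))
    have : Finite (G ⧸ f.ker) := Finite.of_injective (QuotientGroup.kerLift f) (QuotientGroup.kerLift_injective f)
    exact Finite.of_subgroup_quotient f.ker
  have hup : upperSet G = A := by
    ext t
    rw [mem_upperSet, hG, Subgroup.mem_comap, (hφ t).1, top_mem_conjH hB hO hu]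
  have h := (field_of_upper p G (by rw [hup]; exact hcard) (by rw [hup]; exact hO.one) hd
    (by rw [hG, Subgroup.mem_comap, hY, mem_conjH]; exact hy)).1
  rwa [hup] at h

omit hO in
/-- Conjugation by `Q` moves a long root element of `Q` by a multiple in the highest root group. -/
theorem exists_eta {g g' : ℕ} (hg : pairOK D g g' = true) {u : GL D.Idx F} (hu : u ∈ qGroup C) :
    ∃ η : F, ∀ s : F, u⁻¹ * C.xGL g s * u = C.xGL g s * C.xGL (topRoot D) (s * η) := by
  simp only [pairOK, Bool.and_eq_true, decide_eq_true_eq, List.all_eq_true, Bool.or_eq_true] at hg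
  obtain ⟨⟨⟨⟨⟨⟨⟨⟨⟨hgq, -⟩, -⟩, hall⟩, -⟩, -⟩, -⟩, -⟩, -⟩, -⟩ := hg
  have hg1 := (mem_qList hgq).1
  refine Subgroup.closure_induction
    (p := fun u _ => ∃ η : F, ∀ s : F, u⁻¹ * C.xGL g s * u = C.xGL g s * C.xGL (topRoot D) (s * η))
    ?_ ?_ ?_ ?_ hu
  · rintro _ ⟨q, hq, v, rfl⟩
    rcases hall q hq with (rfl | h) | h
    · exact ⟨0, fun s => by rw [mul_zero, C.xGL_zero, mul_one, mul_assoc, ← C.xGL_add, add_comm s,
        C.xGL_add, inv_mul_cancel_left]⟩
    · exact ⟨0, fun s => by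
        rw [mul_zero, C.xGL_zero, mul_one, mul_assoc,
          (commute_of_cm C hg1 (mem_qList hq).1 h s v).eq, inv_mul_cancel_left]⟩
    · obtain ⟨N, -, hN⟩ := oneTerm_eq C hg1 (mem_qList hq).1 h
      refine ⟨-(N * v), fun s => ?_⟩
      rw [mul_assoc, inv_mul_eq_iff_eq_mul, ← mul_assoc, hN s v, mul_assoc, ← C.xGL_add]
      rw [show N * (s * v) + s * -(N * v) = 0 by ring, C.xGL_zero, mul_one]
  · exact ⟨0, fun s => by simp [C.xGL_zero]⟩
  · rintro a b ha hb ⟨η, hη⟩ ⟨θ, hθ⟩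
    refine ⟨θ + η, fun s => ?_⟩
    have hc := commute_top C hB (qGroup_le C hb) (s * η)
    calc (a * b)⁻¹ * C.xGL g s * (a * b) = b⁻¹ * (a⁻¹ * C.xGL g s * a) * b := by group
      _ = b⁻¹ * C.xGL g s * b * C.xGL (topRoot D) (s * η) := by
        rw [hη s, mul_assoc b⁻¹, mul_assoc (C.xGL g s), ← hc.eq]; group
      _ = _ := by rw [hθ s, mul_assoc, ← C.xGL_add, mul_add]
  · rintro a ha ⟨η, hη⟩
    refine ⟨-η, fun s => ?_⟩
    have hc := commute_top C hB (qGroup_le C ha) (s * η)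
    have h1 : C.xGL g s * a = a * (C.xGL g s * C.xGL (topRoot D) (s * η)) := by
      rw [← hη s]; group
    rw [inv_inv, mul_neg, ← C.xGL_inv, mul_inv_eq_iff_eq_mul, mul_assoc]
    calc a * C.xGL g s = a * (C.xGL g s * C.xGL (topRoot D) (s * η)) * (C.xGL (topRoot D) (s * η))⁻¹ := by group
      _ = C.xGL g s * (a * (C.xGL (topRoot D) (s * η))⁻¹) := by rw [← h1, mul_assoc]
      _ = _ := by rw [hc.inv_right.eq]

/-- Elements of the conjugate of `H` in the span of a root of `Q` and the highest root. -/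
theorem span_mem {g g' : ℕ} (hg : pairOK D g g' = true) {u : GL D.Idx F} {η : F}
    (hη' : ∀ s : F, u⁻¹ * C.xGL g s * u = C.xGL g s * C.xGL (topRoot D) (s * η))
    (hu : u ∈ qGroup C) {s t : F} (h : C.xGL g s * C.xGL (topRoot D) t ∈ conjH H u) :
    s ∈ A ∧ t - s * η ∈ A := by
  simp only [pairOK, Bool.and_eq_true, decide_eq_true_eq, List.all_eq_true, Bool.or_eq_true] at hg
  obtain ⟨⟨⟨⟨⟨⟨⟨⟨⟨hgq, hg'q⟩, hone⟩, -⟩, -⟩, -⟩, -⟩, -⟩, -⟩, -⟩ := hg
  have htop := hB.top_pos.1
  have hgl := (mem_qList hgq).1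
  have hg'l := (mem_qList hg'q).1
  have hcg := commute_top C hB (C.xGL_mem_posUnipotent (mem_qList hgq) s)
  have h' : C.xGL g s * C.xGL (topRoot D) (t - s * η) ∈ H := by
    rw [mem_conjH] at h
    have e : u * C.xGL g s * u⁻¹ = C.xGL g s * C.xGL (topRoot D) (-(s * η)) := by
      have hs : C.xGL g s * u = u * (C.xGL g s * C.xGL (topRoot D) (s * η)) := by
        rw [← hη' s]; group
      rw [mul_inv_eq_iff_eq_mul, mul_assoc, ← (commute_top C hB (qGroup_le C hu) _).eq, ← mul_assoc,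
        hs, mul_assoc u, mul_assoc, ← C.xGL_add, add_neg_cancel, C.xGL_zero, mul_one]
    have e2 : u * (C.xGL g s * C.xGL (topRoot D) t) * u⁻¹ =
        C.xGL g s * C.xGL (topRoot D) (t - s * η) := by
      rw [← mul_assoc, mul_assoc _ _ u⁻¹, ← (commute_top C hB (inv_mem (qGroup_le C hu)) _).eq,
        ← mul_assoc, e, mul_assoc, ← C.xGL_add, sub_eq_neg_add]
    rwa [e2] at h
  obtain ⟨N, hN, hNc⟩ := oneTerm_eq C hgl hg'l hone
  have hs : s ∈ A := by
    have hx1 := hO.mem g' 1 hO.one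
    have key : (C.xGL g s * C.xGL (topRoot D) (t - s * η))⁻¹ * (C.xGL g' 1)⁻¹ *
        (C.xGL g s * C.xGL (topRoot D) (t - s * η)) * C.xGL g' 1 = C.xGL (topRoot D) (-(N * s)) := by
      have hc' := commute_top C hB (C.xGL_mem_posUnipotent (mem_qList hg'q) 1) (t - s * η)
      have h3 : C.xGL g s * C.xGL g' 1 =
          C.xGL g' 1 * C.xGL g s * C.xGL (topRoot D) (-(N * s)) := by
        rw [hNc s 1, mul_one, mul_assoc, ← C.xGL_add, add_neg_cancel, C.xGL_zero, mul_one]
      rw [mul_assoc, mul_assoc, mul_assoc, inv_mul_eq_iff_eq_mul, inv_mul_eq_iff_eq_mul,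
        ← hc'.eq, ← mul_assoc, h3, mul_assoc, mul_assoc, mul_assoc, ← C.xGL_add, ← C.xGL_add,
        add_comm]
    have hm : C.xGL (topRoot D) (-(N * s)) ∈ H := by
      rw [← key]; exact mul_mem (mul_mem (mul_mem (inv_mem h') (inv_mem hx1)) h') hx1
    have := hO.top_mem _ hm
    rcases hN with rfl | rfl <;> simpa using this
  exact ⟨hs, hO.top_mem _ (by
    have := mul_mem (inv_mem (hO.mem g s hs)) h'
    rwa [inv_mul_cancel_left] at this)⟩

include hη in
/-- Either `d ∈ A`, or the parameter at `g` is quadratic over `A` and outside it. -/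
theorem pair_cases [Infinite F] (p : ℕ) [Fact p.Prime] [CharP F p] {g g' : ℕ} (hg : pairOK D g g' = true)
    {u : GL D.Idx F} (hu : u ∈ qGroup C) {d : F} (hy : u * C.xGL 0 d * u⁻¹ ∈ H) {η : F}
    (hη' : ∀ s : F, u⁻¹ * C.xGL g s * u = C.xGL g s * C.xGL (topRoot D) (s * η)) :
    d ∈ A ∨ (η ∉ A ∧ η ^ (Nat.card A ^ 2) = η ∧ d ^ (Nat.card A ^ 2) = d ∧
      (∀ a ∈ A, a ^ (Nat.card A ^ 2) = a) ∧
      ∃ φ : SpecialLinearGroup (Fin 2) F →* GL D.Idx F,
        ∃ G : Subgroup (SpecialLinearGroup (Fin 2) F),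
          (∀ t : F, φ (slX t) = C.xGL (topRoot D) t ∧ φ (slY t) = C.xGL 0 t) ∧ slY d ∈ G ∧
          (∀ s ∈ A, ∀ a ∈ A, slX (a + s * η) ∈ G) ∧
          ∀ B ∈ G, ∃ s v : F, φ B * (C.xGL g s * C.xGL (D.neg g') v) ∈ conjH H u) := by
  have hg0 := hg
  simp only [pairOK, Bool.and_eq_true, decide_eq_true_eq, List.all_eq_true, Bool.or_eq_true] at hg
  obtain ⟨⟨⟨⟨⟨⟨⟨⟨⟨hgq, hg'q⟩, -⟩, -⟩, hbg⟩, htd⟩, hgd⟩, hbd⟩, hgt⟩, -⟩ := hg
  set δ := D.neg g' with hδ
  have htop := hB.top_pos.1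
  have hbot := hB.pos
  have hgl := (mem_qList hgq).1
  have hdl : δ < D.nroots := C.R.neg_lt _ (mem_qList hg'q).1
  obtain ⟨N₂, hN₂, hbot_g⟩ := oneTerm_eq C hbot hgl hbg
  obtain ⟨N₁, hN₁, htop_d⟩ := oneTerm_eq C htop hdl htd
  have hcgd := commute_of_cm C hgl hdl hgd
  have hcbd := commute_of_cm C hbot hdl hbd
  have hcgt : ∀ s t, Commute (C.xGL g s) (C.xGL (topRoot D) t) := fun s t =>
    commute_top C hB (C.xGL_mem_posUnipotent (mem_qList hgq) s) t
  have htopA : C.xGL (topRoot D) 1 ∈ conjH H u := (top_mem_conjH hB hO hu).2 hO.one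
  have hbH : C.xGL 0 d ∈ conjH H u := mem_conjH.2 hy
  have hW : C.xGL g 1 * C.xGL (topRoot D) η ∈ conjH H u := by
    rw [mem_conjH, show η = 1 * η from (one_mul η).symm, ← hη' 1,
      show u * (u⁻¹ * C.xGL g 1 * u) * u⁻¹ = C.xGL g 1 by group]
    exact hO.mem g 1 hO.one
  -- conjugates of the generators of the normal subgroup
  have htd' : ∀ t v, C.xGL (topRoot D) t * C.xGL δ v * (C.xGL (topRoot D) t)⁻¹ =
      C.xGL δ v * C.xGL g (-(N₁ * (t * v))) := by
    intro t v
    rw [mul_inv_eq_iff_eq_mul, mul_assoc (C.xGL δ v), (hcgt _ t).eq, ← mul_assoc, htop_d t v,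
      mul_assoc, ← C.xGL_add, add_neg_cancel, C.xGL_zero, mul_one]
  have hbg' : ∀ t s, C.xGL 0 t * C.xGL g s * (C.xGL 0 t)⁻¹ =
      C.xGL g s * C.xGL δ (-(N₂ * (t * s))) := by
    intro t s
    rw [mul_inv_eq_iff_eq_mul, mul_assoc (C.xGL g s), ← (hcbd t _).eq, ← mul_assoc, hbot_g t s,
      mul_assoc, ← C.xGL_add, add_neg_cancel, C.xGL_zero, mul_one]
  by_cases hηA : η ∈ A
  · -- two commutators give `d ∈ A`
    left
    have hg1 : C.xGL g 1 ∈ conjH H u := by
      have := mul_mem hW (inv_mem ((top_mem_conjH hB hO hu).2 hηA))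
      rwa [mul_inv_cancel_right] at this
    have hδm : C.xGL δ (-(N₂ * d)) ∈ conjH H u := by
      have h1 : C.xGL 0 d * C.xGL g 1 * (C.xGL 0 d)⁻¹ ∈ conjH H u :=
        mul_mem (mul_mem hbH hg1) (inv_mem hbH)
      rw [hbg' d 1, mul_one] at h1
      have := mul_mem (inv_mem hg1) h1
      rwa [inv_mul_cancel_left] at this
    have hgm : C.xGL g (-(N₁ * -(N₂ * d))) ∈ conjH H u := by
      have h1 : C.xGL (topRoot D) 1 * C.xGL δ (-(N₂ * d)) * (C.xGL (topRoot D) 1)⁻¹ ∈ conjH H u :=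
        mul_mem (mul_mem htopA hδm) (inv_mem htopA)
      rw [htd' 1, one_mul] at h1
      have := mul_mem (inv_mem hδm) h1
      rwa [inv_mul_cancel_left] at this
    have h := (span_mem hB hO hg0 hη' hu (s := -(N₁ * -(N₂ * d))) (t := 0)
      (by rwa [C.xGL_zero, mul_one])).1
    rcases hN₁ with rfl | rfl <;> rcases hN₂ with rfl | rfl <;> simpa using h
  rcases eq_or_ne d 0 with rfl | hd0
  · exact Or.inl A.zero_mem
  right
  refine ⟨hηA, ?_⟩
  -- the abelian subgroup on `g` and `δ`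
  let Nset : Subgroup (GL D.Idx F) :=
    { carrier := {x | ∃ s v, x = C.xGL g s * C.xGL δ v}
      one_mem' := ⟨0, 0, by simp [C.xGL_zero]⟩
      mul_mem' := by
        rintro _ _ ⟨s, v, rfl⟩ ⟨s', v', rfl⟩
        refine ⟨s + s', v + v', ?_⟩
        rw [C.xGL_add, C.xGL_add, mul_assoc, ← mul_assoc (C.xGL δ v), ← (hcgd s' v).eq]
        simp only [mul_assoc]
      inv_mem' := by
        rintro _ ⟨s, v, rfl⟩
        exact ⟨-s, -v, by rw [_root_.mul_inv_rev, ← C.xGL_inv, ← C.xGL_inv, ((hcgd s v).inv_inv).eq]⟩ }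
  obtain ⟨φ, -, hφ⟩ := C.exists_slHom hη hB.top_pos.1
  have hφX : ∀ t, φ (slX t) = C.xGL (topRoot D) t := fun t => (hφ t).1
  have hφY : ∀ t, φ (slY t) = C.xGL 0 t := fun t => by rw [(hφ t).2, hB.neg_top]
  have hnorm : ∀ B, ∀ x ∈ Nset, φ B * x * (φ B)⁻¹ ∈ Nset := by
    intro B
    refine ChevCore.sl_decomp (fun B => ∀ x ∈ Nset, φ B * x * (φ B)⁻¹ ∈ Nset) ?_ ?_ ?_ B
    · rintro t _ ⟨s, v, rfl⟩
      refine ⟨s + -(N₁ * (t * v)), v, ?_⟩
      rw [hφX, show C.xGL (topRoot D) t * (C.xGL g s * C.xGL δ v) * (C.xGL (topRoot D) t)⁻¹ =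
        (C.xGL (topRoot D) t * C.xGL g s * (C.xGL (topRoot D) t)⁻¹) *
          (C.xGL (topRoot D) t * C.xGL δ v * (C.xGL (topRoot D) t)⁻¹) by group, htd',
        ← (hcgt s t).eq, mul_inv_cancel_right, ← (hcgd _ v).eq, C.xGL_add, mul_assoc]
    · rintro t _ ⟨s, v, rfl⟩
      refine ⟨s, -(N₂ * (t * s)) + v, ?_⟩
      rw [hφY, show C.xGL 0 t * (C.xGL g s * C.xGL δ v) * (C.xGL 0 t)⁻¹ =
        (C.xGL 0 t * C.xGL g s * (C.xGL 0 t)⁻¹) *
          (C.xGL 0 t * C.xGL δ v * (C.xGL 0 t)⁻¹) by group, hbg',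
        (hcbd t v).eq, mul_inv_cancel_right, mul_assoc, ← C.xGL_add]
    · intro B B' hB1 hB2 x hx
      have := hB1 _ (hB2 x hx)
      simpa [map_mul, mul_assoc] using this
  have hK0n : (Nset.comap φ).Normal := ⟨fun x hx B => by
    rw [Subgroup.mem_comap, map_mul, map_mul, map_inv]; exact hnorm B _ hx⟩
  have hKfin : ((Nset.comap φ : Subgroup _) : Set (SpecialLinearGroup (Fin 2) F)).Finite := by
    refine finite_of_normal _ (fun t ht => ?_) (fun t ht => ?_)
    · obtain ⟨s, v, hsv⟩ := ht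
      rw [hφX] at hsv
      by_contra ht0
      have hc : Commute (C.xGL (topRoot D) t) (C.xGL δ 1) := by
        rw [hsv]; exact (hcgd s 1).mul_left (by
          show C.xGL δ v * C.xGL δ 1 = C.xGL δ 1 * C.xGL δ v
          rw [← C.xGL_add, ← C.xGL_add, add_comm])
      have h1 := htd' t 1
      rw [hc.eq, mul_inv_cancel_right, left_eq_mul, C.xGL_eq_one_iff hgl] at h1
      rcases hN₁ with rfl | rfl <;> simp at h1 <;> exact ht0 h1
    · obtain ⟨s, v, hsv⟩ := ht
      rw [hφY] at hsv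
      by_contra ht0
      have hc : Commute (C.xGL 0 t) (C.xGL g 1) := by
        rw [hsv]; exact (show Commute (C.xGL g s) (C.xGL g 1) from by
          show C.xGL g s * C.xGL g 1 = C.xGL g 1 * C.xGL g s
          rw [← C.xGL_add, ← C.xGL_add, add_comm]).mul_left (hcgd 1 v).symm
      have h1 := hbg' t 1
      rw [hc.eq, mul_inv_cancel_right, left_eq_mul, C.xGL_eq_one_iff hdl] at h1
      rcases hN₂ with rfl | rfl <;> simp at h1 <;> exact ht0 h1
  let G : Subgroup (SpecialLinearGroup (Fin 2) F) :=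
    { carrier := {B | ∃ n ∈ Nset, φ B * n ∈ conjH H u}
      one_mem' := ⟨1, one_mem _, by simp⟩
      mul_mem' := by
        rintro B B' ⟨n, hn, h⟩ ⟨n', hn', h'⟩
        refine ⟨(φ B')⁻¹ * n * φ B' * n', mul_mem ?_ hn', ?_⟩
        · simpa using hnorm B'⁻¹ n hn
        · rw [map_mul]
          simpa [mul_assoc] using mul_mem h h'
      inv_mem' := by
        rintro B ⟨n, hn, h⟩
        refine ⟨φ B * n⁻¹ * (φ B)⁻¹, hnorm B _ (inv_mem hn), ?_⟩
        rw [map_inv]
        simpa [mul_assoc] using inv_mem h }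
  have hGfin : Finite G := by
    have : Finite (conjH H u) := finite_conjH hO u
    have hcover : (G : Set (SpecialLinearGroup (Fin 2) F)) ⊆
        ⋃ h : conjH H u, {B | ∃ n ∈ Nset, φ B * n = h} := fun B ⟨n, hn, hB'⟩ =>
      Set.mem_iUnion.2 ⟨⟨_, hB'⟩, n, hn, rfl⟩
    refine (Set.Finite.subset (Set.finite_iUnion fun h => ?_) hcover).to_subtype
    by_cases hne : ({B | ∃ n ∈ Nset, φ B * n = (h : GL D.Idx F)}).Nonempty
    · obtain ⟨B₀, n₀, hn₀, h₀⟩ := hne
      refine Set.Finite.subset (hKfin.image (fun k => B₀ * k)) ?_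
      rintro B ⟨n, hn, hBn⟩
      refine ⟨B₀⁻¹ * B, ?_, mul_inv_cancel_left _ _⟩
      show φ (B₀⁻¹ * B) ∈ Nset
      have : φ (B₀⁻¹ * B) = n₀ * n⁻¹ := by
        rw [map_mul, map_inv, inv_mul_eq_iff_eq_mul, ← mul_assoc, h₀, ← hBn, mul_inv_cancel_right]
      rw [this]
      exact mul_mem hn₀ (inv_mem hn)
    · rw [Set.not_nonempty_iff_eq_empty.1 hne]; exact Set.finite_empty
  have : Finite A := finite_A hO htop
  have hupper : ∀ t, t ∈ upperSet G → ∃ s ∈ A, t - s * η ∈ A := by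
    rintro t ⟨_, ⟨s, v, rfl⟩, h⟩
    rw [hφX] at h
    have h1 : C.xGL g (-(N₁ * v)) ∈ conjH H u := by
      have hh := mul_mem (inv_mem h) (mul_mem (mul_mem htopA h) (inv_mem htopA))
      rwa [show C.xGL (topRoot D) 1 * (C.xGL (topRoot D) t * (C.xGL g s * C.xGL δ v)) *
          (C.xGL (topRoot D) 1)⁻¹ =
          C.xGL (topRoot D) t * (C.xGL g s * C.xGL δ v) * C.xGL g (-(N₁ * v)) by
        have e := htd' 1 v
        rw [one_mul, mul_inv_eq_iff_eq_mul] at e
        rw [mul_inv_eq_iff_eq_mul, ← mul_assoc, ← C.xGL_add, add_comm, C.xGL_add]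
        simp only [mul_assoc]
        rw [← mul_assoc (C.xGL (topRoot D) 1) (C.xGL g s), ← (hcgt s 1).eq, mul_assoc, e]
        simp only [mul_assoc], inv_mul_cancel_left] at hh
    obtain ⟨hv, hvη⟩ := span_mem hB hO hg0 hη' hu (s := -(N₁ * v)) (t := 0)
      (by rwa [C.xGL_zero, mul_one])
    rw [zero_sub, ← neg_mul, neg_neg] at hvη
    have hv0 : v = 0 := by
      by_contra hv0
      refine hηA ?_
      have hNv : N₁ * v ∈ A := by simpa using A.neg_mem hv
      have hN0 : N₁ * v ≠ 0 := mul_ne_zero (by rcases hN₁ with rfl | rfl <;> simp) hv0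
      have hi := (pow_natCard_eq A hO.one hO.mul).1 _ hNv
      have := hO.mul _ hi _ hvη
      rwa [inv_mul_cancel_left₀ hN0] at this
    rw [hv0, C.xGL_zero, mul_one, ← (hcgt s t).eq] at h
    exact ⟨s, span_mem hB hO hg0 hη' hu h⟩
  have hA2 : ∀ s ∈ A, ∀ a ∈ A, a + s * η ∈ upperSet G := by
    intro s hs a ha
    refine ⟨C.xGL g s, ⟨s, 0, by simp [C.xGL_zero]⟩, ?_⟩
    rw [hφX, add_comm, C.xGL_add, mul_assoc, ← (hcgt s a).eq, ← mul_assoc, ← (hcgt s (s * η)).eq]
    refine mul_mem ?_ ((top_mem_conjH hB hO hu).2 ha)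
    rw [mem_conjH, ← hη' s, show u * (u⁻¹ * C.xGL g s * u) * u⁻¹ = C.xGL g s by group]
    exact hO.mem g s hs
  have hle : Nat.card (upperSet G) ≤ Nat.card A ^ 2 := by
    rw [sq, ← Nat.card_prod]
    refine Nat.card_le_card_of_injective
      (fun t : upperSet G => ((⟨(hupper t t.2).choose, (hupper t t.2).choose_spec.1⟩ : A),
        (⟨_, (hupper t t.2).choose_spec.2⟩ : A))) fun t t' h => ?_
    simp only [Prod.mk.injEq, Subtype.mk.injEq] at h
    exact Subtype.ext (by rw [h.1] at h; linear_combination h.2)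
  have hge : Nat.card A ^ 2 ≤ Nat.card (upperSet G) := by
    rw [sq, ← Nat.card_prod]
    refine Nat.card_le_card_of_injective
      (fun x : A × A => (⟨(x.1 : F) + x.2 * η, hA2 _ x.2.2 _ x.1.2⟩ : upperSet G)) fun x y h => ?_
    have h' : (x.1 : F) + x.2 * η = y.1 + y.2 * η := congrArg Subtype.val h
    have h2 : (x.2 : F) = y.2 := by
      by_contra hne
      refine hηA ?_
      have hi := (pow_natCard_eq A hO.one hO.mul).1 _ (sub_mem x.2.2 y.2.2)
      have := hO.mul _ hi _ (sub_mem y.1.2 x.1.2)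
      rwa [show ((x.2 : F) - y.2)⁻¹ * (y.1 - x.1) = η by
        rw [inv_mul_eq_iff_eq_mul₀ (sub_ne_zero.2 hne)]; linear_combination -h'] at this
    refine Prod.ext (Subtype.ext ?_) (Subtype.ext h2)
    rw [h2] at h'
    exact add_right_cancel h'
  have hcard : Nat.card (upperSet G) = Nat.card A ^ 2 := le_antisymm hle hge
  have hA1 : 2 ≤ Nat.card A := by
    have : Nontrivial A := ⟨⟨0, ⟨1, hO.one⟩, fun h => zero_ne_one (congrArg Subtype.val h)⟩⟩
    exact Finite.one_lt_card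
  have hbG : slY d ∈ G := ⟨1, one_mem _, by rw [hφY, mul_one]; exact hbH⟩
  have hone : (1 : F) ∈ upperSet G := by simpa using hA2 0 A.zero_mem 1 hO.one
  obtain ⟨hdV, hVmul⟩ := field_of_upper p G
    (by rw [hcard]; exact le_trans (by norm_num) (Nat.pow_le_pow_left hA1 2)) hone hd0 hbG
  have hpow := (pow_natCard_eq (upperSet G) hone hVmul).2
  rw [hcard] at hpow
  refine ⟨hpow η (by simpa using hA2 1 hO.one 0 A.zero_mem), hpow d hdV,
    fun a ha => hpow a (by simpa using hA2 0 A.zero_mem a ha),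
    φ, G, fun t => ⟨hφX t, hφY t⟩, hbG, hA2, ?_⟩
  rintro B ⟨_, ⟨s, v, rfl⟩, h⟩
  exact ⟨s, v, h⟩

end CfsgLib.SubfieldOver
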